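import Cfsg.Agent.GP.GS
import Cfsg.Agent.GP.AB
import Cfsg.Agent.GP.CB
import Cfsg.Agent.H11.Dih
import Cfsg.Agent.H11.Three
import Cfsg.Agent.H23.Fac
import Cfsg.Agent.H23.Group
import Cfsg.Agent.S3742
import Cfsg.Agent.H1.Quaternion

/-! Strongly closed `2`-subgroups with a unique involution. -/

set_option autoImplicit false
set_option linter.style.haveILetI false

namespace Cfsg.Agent.SCQ

open Subgroup Cfsg.Agent.H10 Cfsg.Agent.H11 Cfsg.Agent.WA Cfsg.Agent.GO Cfsg.Agent.GP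
open scoped commutatorElement

universe u
variable {G : Type u} [Group G] [Finite G] {S E B U : Subgroup G}

/-- Fusion modulo a strongly closed subgroup is controlled by its normalizer. -/
theorem puig (T : Sylow 2 G) (hS : SC S ⊤) (hT : S ≤ T) {x g : G} (hx : x ∈ (T : Subgroup G))
    (hg : g * x * g⁻¹ ∈ (T : Subgroup G)) : ∃ n ∈ normalizer (S : Set G), n * x * n⁻¹ ∈ (T : Subgroup G) ∧
      (g * x * g⁻¹)⁻¹ * (n * x * n⁻¹) ∈ S := by
  have sc : (groupFusionSystem (T : Subgroup G)).StronglyClosed S := H23.stronglyClosed_iff.2 ⟨hT, fun P σ hσ y hy h => by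
    obtain ⟨k, e⟩ := hσ.exists_cj'
    have := hσ.mem hy
    rw [e y hy] at this ⊢
    exact hS.cl T le_top T.2 hT y h k trivial this⟩
  obtain ⟨τ, h1, h2⟩ := (H23.sat_group T).exists_ext_mod sc (H23.mor_group_cj (P := zpowers x) g (zpowers_le.2 hx)
    fun y hy => by
      obtain ⟨k, rfl⟩ := mem_zpowers_iff.1 hy
      rw [← conj_zpow]; exact zpow_mem hg k)
  obtain ⟨n, e⟩ := h1.exists_cj'
  replace e : ∀ y ∈ zpowers x ⊔ S, τ y = n * y * n⁻¹ := e
  have m : x ∈ zpowers x ⊔ S := mem_sup_left (mem_zpowers x)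
  exact ⟨n, mem_normalizer_of_forall fun y hy => e y (mem_sup_right hy) ▸ h1.mem_of_sc sc (mem_sup_right hy) hy,
    e x m ▸ h1.mem m, e x m ▸ h2 x (mem_zpowers x)⟩

/-- If elements of odd order normalizing `B` centralize `U`, a radical `B` contains the stabilizer of `B / U`. -/
theorem rad_mem {P : Subgroup G} (hr : H3.Radical 2 P B) (hU : IsPGroup 2 U)
    (hn : normalizer (B : Set G) ≤ normalizer (U : Set G))
    (ho : ∀ g ∈ normalizer (B : Set G), Odd (orderOf g) → g ∈ centralizer (U : Set G)) {q : G} (hq : q ∈ P)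
    (h1 : q ∈ normalizer (B : Set G)) (h2 : ∀ b ∈ B, b⁻¹ * (q * b * q⁻¹) ∈ U) : q ∈ B := by
  let K : Subgroup G :=
    { carrier := {g | g ∈ normalizer (B : Set G) ∧ ∀ b ∈ B, b⁻¹ * (g * b * g⁻¹) ∈ U}
      one_mem' := ⟨one_mem _, fun b _ => by simp⟩
      mul_mem' := fun {a c} ha hc => ⟨mul_mem ha.1 hc.1, fun b hb => by
        have := mul_mem (ha.2 b hb) (conj_mem_of_mem_normalizer (hn ha.1) (hc.2 b hb))
        convert this using 1; group⟩
      inv_mem' := fun {a} ha => ⟨inv_mem ha.1, fun b hb => by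
        have := conj_mem_of_mem_normalizer' (hn ha.1) (inv_mem (ha.2 b hb))
        convert this using 1; group⟩ }
  refine hr K (fun _ h => h.1) (fun n a => mem_normalizer_of_forall fun g hg =>
    ⟨mul_mem (mul_mem a hg.1) (inv_mem a), fun b hb => ?_⟩) (fun g hg e b hb => ?_) ⟨hq, h1, h2⟩
  · have := conj_mem_of_mem_normalizer (hn a) (hg.2 _ (conj_mem_of_mem_normalizer' a hb))
    convert this using 1; group
  · have o := Nat.coprime_two_right.1 e
    obtain ⟨k, hk⟩ := hU ⟨_, hg.2 b hb⟩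
    exact (commute_of_odd_of_mod o (congrArg Subtype.val hk) (ho g hg.1 o _ (hg.2 b hb)).symm (by group)).symm

section
variable {n : ℕ} {X Y : ZMod (2 ^ n) → G} (h : MC S n 0 (hh n) X Y)
include h

omit [Finite G] in
theorem cent_eight {k : ZMod (2 ^ n)} {s : G} (hs : s ∈ S) (h1 : s * X (qq n) = X (qq n) * s) (h2 : s * Y k = Y k * s) :
    s ∈ centralizer (S : Set G) := by
  have o := (h.orderOf_X_four (a := qq n)).2 (Or.inl rfl)
  obtain ⟨a, rfl⟩ := h.mem_zpowers_X.1 ((h.commute_X_iff (fun e => by simp [e, h.X_zero] at o)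
    (fun e => by rw [e, h.orderOf_z] at o; omega) hs).1 h1)
  exact fun t ht => (h.central_iff hs).2 ((h.XY_comm_iff.1 h2).imp (fun e => by rw [e, h.X_zero]) (congrArg X)) t ht

theorem odd_cases (hU : U ≤ S) : (∀ g ∈ normalizer (U : Set G), Odd (orderOf g) → g ∈ centralizer (U : Set G)) ∨
    ∃ k, U = closure {X (qq n), Y k} := by
  by_contra! e
  obtain ⟨⟨g, h1, h2, h3⟩, h4⟩ := e
  rcases h.odd_cent hU h1 h2 with a | ⟨k, a, -⟩ | ⟨k, -, a, -⟩
  · exact h3 a
  · have := h.orderOf_z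
    rw [zero_mul, add_zero] at a
    simp [a, h.X_zero] at this
  · exact h4 k a

variable {T : Sylow 2 G} (hS : SC S ⊤) (hT : S ≤ T)
include hS hT

theorem rad_eight (hB : B ≤ T) (hr : H3.Radical 2 T B) : ∃ k, X (qq n) ∈ B ∧ Y k ∈ B := by
  by_cases e : S ≤ B
  · exact ⟨0, e (h.X_mem _), e (h.Y_mem _)⟩
  have hn := norm_inf hS hT hB
  rcases odd_cases h (inf_le_right : B ⊓ S ≤ S) with a | ⟨k, a⟩
  · obtain ⟨y, y1, y2, y3⟩ := exists_mem_normalizer_of_lt (T.2.to_le (sup_le hB hT)) (left_lt_sup.2 e)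
    have nS := hB.trans (hS.le_norm le_top T.2 hT)
    obtain ⟨b, hb, q, hq, rfl⟩ := (mem_sup_iff_of_left_le_normalizer nS).1 y1
    have q1 := (mul_mem_cancel_left (le_normalizer hb)).1 y3
    refine absurd (mul_mem hb (rad_mem hr (hS.two.to_le inf_le_right) hn (fun g hg => a g (hn hg)) (hT hq) q1
      fun b hb => ⟨B.mul_mem (B.inv_mem hb) (conj_mem_of_mem_normalizer q1 hb), ?_⟩)) y2
    simpa [mul_assoc] using S.mul_mem (conj_mem_of_mem_normalizer' (nS hb) hq) (S.inv_mem hq)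
  · exact ⟨k, (a.ge (subset_closure (by simp))).1, (a.ge (subset_closure (by simp))).1⟩

theorem two_mod (h8 : Nat.card S = 8) {a b : G} (ha : a ∈ (T : Subgroup G)) (hb : b ∈ (T : Subgroup G))
    (a1 : a ∉ S ⊔ centralizer (S : Set G)) (b1 : b ∉ S ⊔ centralizer (S : Set G)) :
    a * b ∈ S ⊔ centralizer (S : Set G) := by
  have nT := hS.le_norm le_top T.2 hT
  obtain rfl : n = 2 := by
    have := Nat.pow_right_injective le_rfl (show 2 ^ (n + 1) = 2 ^ 3 from h.card.symm.trans h8)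
    omega
  obtain ⟨φ⟩ := h.eight_quaternion (k := 0) (by simp)
  rw [show qq 2 = 1 from rfl, ← h.eq_closure rfl] at φ
  obtain ⟨ψ⟩ := S3742.result
  set f := S.normalizerMonoidHom
  have k : kr f = centralizer (S : Set G) :=
    (kr_eq_of_ker S.normalizerMonoidHom_ker).trans (inf_eq_left.2 (centralizer_le_normalizer _))
  have m : ∀ x (hx : x ∈ normalizer (S : Set G)), f ⟨x, hx⟩ ∈ im f S ↔ x ∈ S ⊔ centralizer (S : Set G) := fun x hx => by
    rw [← mem_pre, pre_im le_normalizer, k]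
  have c1 : Nat.card (im f (T : Subgroup G)) ≤ 8 := by
    obtain ⟨j, hj⟩ := IsPGroup.iff_card.1 (isPGroup_im (f := f) T.2)
    have := card_subgroup_dvd_card (im f (T : Subgroup G))
    rw [Nat.card_congr ((MulAut.congr φ).trans ψ).toEquiv, Nat.card_perm, Nat.card_fin, hj] at this
    exact hj ▸ Nat.le_of_dvd (by norm_num) (Nat.Coprime.dvd_of_dvd_mul_right (k := 2 ^ j) (m := 8) (n := 3)
      (Nat.Coprime.pow_left _ (by norm_num)) this)
  have c2 := card_im_mul (f := f) (le_normalizer (H := S))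
  rw [k, ← center_map_subtype, h.map_center, Nat.card_zpowers, h.orderOf_z, h8] at c2
  have c3 := H11.card_mul_relIndex (im_mono hT : im f S ≤ im f (T : Subgroup G))
  have c4 : (im f S).relIndex (im f (T : Subgroup G)) ≠ 1 := fun e =>
    a1 ((m a (nT ha)).1 (relIndex_eq_one.1 e (mem_im _ ha)))
  have c5 : (im f S).relIndex (im f (T : Subgroup G)) ≠ 0 := index_ne_zero_of_finite
  have c6 : (im f S).relIndex (im f (T : Subgroup G)) = 2 := by
    rw [show Nat.card (im f S) = 4 by omega] at c3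
    omega
  have := mul_mem_of_relIndex_two c6 (mem_im (nT ha) ha) (mem_im (nT hb) hb) (mt (m _ _).1 a1) (mt (m _ _).1 b1)
  rw [← map_mul] at this
  exact (m _ _).1 this

omit h in
theorem dedk {x : G} (hx : x ∈ (T : Subgroup G)) (e : x ∈ S ⊔ centralizer (S : Set G)) :
    x ∈ S ⊔ ((T : Subgroup G) ⊓ centralizer (S : Set G)) := by
  obtain ⟨s, hs, c, hc, rfl⟩ := (mem_sup_iff_of_left_le_normalizer
    (le_normalizer.trans (normalizer_le_normalizer_centralizer _))).1 e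
  exact mul_mem (mem_sup_left hs) (mem_sup_right ⟨(Subgroup.mul_mem_cancel_left _ (hT hs)).1 hx, hc⟩)

theorem le_sup_cent (hg : Kc S ⊤ = ⊤) : (T : Subgroup G) ≤ S ⊔ ((T : Subgroup G) ⊓ centralizer (S : Set G)) := by
  have nT := hS.le_norm le_top T.2 hT
  have nC := normalizer_le_normalizer_centralizer S
  set R := (T : Subgroup G) ⊓ centralizer (S : Set G)
  have key : ∀ x ∈ (T : Subgroup G), ∀ g ∈ normalizer (S : Set G), g * x * g⁻¹ ∈ (T : Subgroup G) →
      x⁻¹ * (g * x * g⁻¹) ∈ ⁅(T : Subgroup G), (T : Subgroup G)⁆ ⊔ (S ⊔ R) := fun x hx g hg e => by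
    rcases odd_cases h le_rfl with a | ⟨k, a⟩
    · obtain ⟨t, ht, c, hc, rfl⟩ := (mem_sup_iff_of_left_le_normalizer (nT.trans nC)).1
        (le_of_sylIn_of_odd (K := (T : Subgroup G) ⊔ centralizer (S : Set G)) (isSylIn_of_sylow_le T nT) le_sup_left
          (fun y y1 y2 => mem_sup_right (a y y1 y2)) hg)
      have y1 : c * x * c⁻¹ ∈ (T : Subgroup G) := by
        convert conj_mem_of_mem_normalizer' (le_normalizer ht) e using 1; group
      have y2 : x⁻¹ * (c * x * c⁻¹) ∈ R := mem_inf.2 ⟨mul_mem (inv_mem hx) y1, by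
        simpa [mul_assoc] using (centralizer (S : Set G)).mul_mem (conj_mem_of_mem_normalizer' (nC (nT hx)) hc) (inv_mem hc)⟩
      convert mul_mem (mem_sup_right (mem_sup_right y2)) (mem_sup_left (commutator_mem_commutator (inv_mem y1) ht) :
        _ ∈ ⁅(T : Subgroup G), (T : Subgroup G)⁆ ⊔ (S ⊔ R)) using 1
      rw [commutatorElement_def]; group
    · refine mem_sup_right (dedk hS hT (mul_mem (inv_mem hx) e) ?_)
      have i := mem_normalizer_iff.1 (le_normalizer_sup le_rfl nC hg) x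
      by_cases b : x ∈ S ⊔ centralizer (S : Set G)
      · exact mul_mem (inv_mem b) (i.1 b)
      · exact two_mod h hS hT (a ▸ h.card_eight k) (inv_mem hx) e (mt inv_mem_iff.1 b) (mt i.2 b)
  have hL : S ⊔ R ≤ T := sup_le hT inf_le_left
  obtain ⟨K, k1, k2, -⟩ := exists_normal_of_fusion T (sup_le (commutator_le_self _) hL) fun x hx g e => by
    obtain ⟨m, m1, m2, m3⟩ := puig T hS hT hx e
    convert mul_mem (key x hx m m1 m2) (inv_mem (mem_sup_right (mem_sup_left m3))) using 1; group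
  refine H3.le_of_le_commutator_sup T.2.isNilpotent le_rfl le_rfl hL
    (le_normalizer_sup nT (le_normalizer_inf le_normalizer (nT.trans nC))) (k2 ▸ le_inf (le_top.trans ?_) le_rfl)
  exact hg ▸ Kc_top_le ((le_sup_left.trans le_sup_right).trans (k2.ge.trans inf_le_left))

theorem sc_cent (hg : Kc S ⊤ = ⊤) : SC ((T : Subgroup G) ⊓ centralizer (S : Set G)) ⊤ := by
  set R := (T : Subgroup G) ⊓ centralizer (S : Set G) with hR
  have key : ∀ B : Subgroup G, B ≤ T → H3.Radical 2 T B →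
      ∀ g ∈ normalizer (B : Set G), ∀ x ∈ B, x ∈ R ↔ g * x * g⁻¹ ∈ R := fun B hB hr g gB x hx => by
    obtain ⟨k, k1, k2⟩ := rad_eight h hS hT hB hr
    have h1 : R = (T : Subgroup G) ⊓ centralizer ((B ⊓ S : Subgroup G) : Set G) :=
      le_antisymm (inf_le_inf_left _ (centralizer_anti inf_le_right)) fun y hy => ⟨hy.1, by
        obtain ⟨s, hs, c, hc, rfl⟩ := (mem_sup_iff_of_left_le_normalizer (le_normalizer_inf (hT.trans le_normalizer)
          (le_normalizer.trans (normalizer_le_normalizer_centralizer _)))).1 (le_sup_cent h hS hT hg hy.1)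
        have c := (Subgroup.mul_mem_cancel_right _ (centralizer_anti inf_le_right hc.2)).1 hy.2
        exact mul_mem (cent_eight h hs (c _ ⟨k1, h.X_mem _⟩).symm (c _ ⟨k2, h.Y_mem _⟩).symm) hc.2⟩
    rw [h1, mem_inf, mem_inf, and_iff_right (hB hx), and_iff_right (hB (conj_mem_of_mem_normalizer gB hx))]
    exact mem_normalizer_iff.1 (normalizer_le_normalizer_centralizer _ (norm_inf hS hT hB gB)) x
  refine SC.of_syl (isSylIn_top T) inf_le_left fun a ha g _ e => (H3.alperin_essential T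
    (R := fun A g => ∀ x ∈ A, x ∈ R ↔ g * x * g⁻¹ ∈ R) ⟨fun h1 h2 x hx => h2 x (h1 hx),
      fun {A g k} h1 h2 x hx => ?_, fun {A g} h1 x hx => ?_⟩
    (key T le_rfl (H3.radical_self _)) (fun B H hB hf hE hH => ?_)
    (zpowers a) g (zpowers_le.2 ha.1) ?_ a (mem_zpowers a)).1 ha
  · rw [h1 x hx, h2 _ (H11.mem_conj_smul.2 (by simpa [mul_assoc] using hx))]
    simp [mul_assoc]
  · simpa [mul_assoc] using (h1 _ (H11.mem_conj_smul.1 hx)).symm
  · by_contra hne
    refine hne fun n hn => hH n hn (key B hB.le (hE.radical hB hf (fun c hc => hH c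
      (centralizer_le_normalizer _ hc) fun x hx => ?_) hne) n hn)
    rw [← hc x hx, mul_inv_cancel_right]
  · rwa [conj_smul_eq_map, ← H11.cj, cj_zpowers, zpowers_le]

theorem quat (hO : OqOf 2 (⊤ : Subgroup G) = ⊥) (hg : Kc S ⊤ = ⊤) (hz : X (hh n) ∈ center G) : (T : Subgroup G) ≤ S := by
  have h1 := le_sup_cent h hS hT hg
  have h2 := sc_cent h hS hT hg
  set R := (T : Subgroup G) ⊓ centralizer (S : Set G)
  have h3 := PP.qs ⟨hS, h2, le_centralizer_iff.1 inf_le_right⟩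
  haveI : (zpowers (X (hh n))).Normal := ⟨fun x hx g => by
    rwa [mem_center_iff.1 (zpowers_le.2 hz hx) g, mul_inv_cancel_right]⟩
  have h4 : zpowers (X (hh n)) ≤ R := zpowers_le.2 ⟨hT (h.X_mem _), center_le_centralizer _ hz⟩
  rw [hO, sup_bot_eq, hg] at h3
  have h5 : ⁅⊤, R⁆ ≤ R := ((commutator_mono le_rfl le_Kc_top).trans (h3.trans (Kc_top_le fun x hx =>
    h.mem_zpowers_z.2 ((h.central_iff hx.1).1 hx.2.2)))).trans h4
  haveI : R.Normal := ⟨fun x hx g => by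
    simpa [commutatorElement_def] using R.mul_mem (h5 (commutator_mem_commutator (mem_top g) hx)) hx⟩
  have h6 : ⊤ ≤ centralizer (R : Set G) := hg ▸ Kc_top_le (le_centralizer_iff.1 inf_le_right)
  obtain ⟨K, k1, k2, -⟩ := exists_normal_of_fusion T hT fun x hx g e => by
    obtain ⟨s, hs, c, hc, rfl⟩ := (mem_sup_iff_of_left_le_normalizer le_normalizer_of_normal).1 (h1 hx)
    have e1 : g * (s * c) * g⁻¹ = g * s * g⁻¹ * c := by
      rw [mul_assoc _ _ c, ← h6 (mem_top g⁻¹) c hc]; group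
    rw [e1] at e ⊢
    have := hS.cl T le_top T.2 hT s hs g trivial ((Subgroup.mul_mem_cancel_right _ hc.1).1 e)
    convert conj_mem_of_mem_normalizer' (centralizer_le_normalizer _ hc.2) (mul_mem (inv_mem hs) this) using 1
    group
  exact k2 ▸ le_inf (le_top.trans (hg ▸ Kc_top_le (k2.ge.trans inf_le_left))) le_rfl

end

theorem rank1 (T : Sylow 2 G) (hS : SC S ⊤) (hT : S ≤ T) (hO : OqOf 2 (⊤ : Subgroup G) = ⊥) (hg : Kc S ⊤ = ⊤)
    (hu : ∀ x ∈ S, ∀ y ∈ S, x * x = 1 → y * y = 1 → x ≠ 1 → y ≠ 1 → x = y) : (T : Subgroup G) ≤ S := by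
  by_cases h0 : S = ⊥
  · subst h0; exact le_top.trans (hg ▸ Kc_top_le le_rfl)
  obtain ⟨z, z1, z2, -⟩ := exists_inv hS.two h0
  have zz : z * z = 1 := by rw [← pow_two, ← z2, pow_orderOf_eq_one]
  have z0 : z ≠ 1 := fun e => by simp [e] at z2
  have m : ∀ x ∈ S, x * x = 1 → x ∈ zpowers z := fun x hx e =>
    (mem_zpowers_invol zz).2 (or_iff_not_imp_left.2 fun a => hu x hx z z1 e zz a z0)
  have sq : ∀ x ∈ zpowers z, x * x = 1 := fun x hx => by
    rcases (mem_zpowers_invol zz).1 hx with rfl | rfl <;> simp [zz]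
  have hE : ES (zpowers z) ⊤ := ⟨SC.of_syl (isSylIn_top T) (zpowers_le.2 (hT z1)) fun a ha g _ e =>
    m _ (hS.cl T le_top T.2 hT a (zpowers_le.2 z1 ha) g trivial e) (by rw [conj_mul, sq a ha, mul_one, mul_inv_cancel]), sq⟩
  have hn := hE.gen (gold_all.lo ⊤) (hO.le.trans bot_le) (fun K hK => by
    have := hK.four.trans (Nat.le_of_dvd Nat.card_pos (card_im_dvd hK.nA))
    rw [Nat.card_zpowers, z2] at this
    omega) inf_le_right
  have zc : zpowers z ≤ center G := zpowers_le.2 (mem_center_iff.2 fun g => mul_inv_eq_iff_eq_mul.1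
    (((mem_zpowers_invol zz).1 (conj_mem_of_mem_normalizer (hn (mem_top g)) (mem_zpowers z))).resolve_left (by simpa)))
  rcases H1.isCyclic_or_quaternion hS.two fun x y e1 e2 => by
      have e3 : x = ⟨z, z1⟩ := Subtype.ext (hu _ x.2 z z1 (congrArg Subtype.val
        (by rw [← pow_two, ← e1, pow_orderOf_eq_one] : x * x = 1)) zz (fun e => by
          rw [show x = 1 from Subtype.ext e] at e1; simp at e1) z0)
      obtain ⟨k, hk⟩ := mem_zpowers_iff.1 (m _ y.2 (congrArg Subtype.val (by rw [← pow_two, e2] : y * y = 1)))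
      exact e3 ▸ mem_zpowers_iff.2 ⟨k, Subtype.ext hk⟩ with c | ⟨-, k, k1, ⟨φ⟩⟩
  · obtain ⟨-, a, ⟨P, p1, p2⟩, -⟩ := gs hO hS (fun x hx y hy => congrArg Subtype.val
      (c.isMulCommutative.is_comm.comm (⟨y, hy⟩ : S) ⟨x, hx⟩)) hg
    have b : S ≤ center G := p2.le.trans (sup_le a ((closure_le _).2 fun x hx =>
      zc (m x (p2.ge (mem_sup_right (subset_closure hx))) (pow_two x ▸ hx.2))))
    haveI : S.Normal := ⟨fun x hx g => by rwa [mem_center_iff.1 (b hx) g, mul_inv_cancel_right]⟩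
    exact le_top.trans (hg ▸ Kc_top_le le_rfl)
  · obtain ⟨X, Y, h⟩ := exists_MC_of_quaternion k1 φ
    exact quat h hS hT hO hg (zc (m _ (h.X_mem _) (h.X_sq_eq_one.2 (Or.inr rfl))))

theorem core (T : Sylow 2 G) (hS : SC S ⊤) (hT : S ≤ T) (hO : OqOf 2 (⊤ : Subgroup G) = ⊥) (hE : ES E ⊤)
    (hm : ∀ x, x ∈ E ↔ x ∈ S ∧ x * x = 1) {H : Subgroup G} (hH : H ≠ ⊤)
    (hC : ∀ s ∈ S, s ≠ 1 → centralizer {s} ≤ H) (hN : normalizer (E : Set G) ≤ H) :
    (∀ t ∈ (T : Subgroup G) ⊓ Kc S ⊤, t * t = 1 → t ∈ S) ∧ ((T : Subgroup G) ⊓ Kc S ⊤ ≤ S ∨ S ≤ E) := by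
  obtain ⟨K, hK, kH⟩ : ∃ K, AC E K ⊤ ∧ ¬ K ≤ H := by
    by_contra! e
    exact hH (top_le_iff.1 (hE.gen (gold_all.lo ⊤) (hO.le.trans bot_le) e (inf_le_right.trans hN)))
  have ES : E ≤ S := fun x hx => ((hm x).1 hx).1
  have sc : ∀ s ∈ S, s ∈ centralizer (K : Set G) → s = 1 := fun s a b => by_contra fun c =>
    kH (le_trans (fun k hk => mem_centralizer_singleton_iff.2 (b k hk)) (hC s a c))
  have EK : E ≤ K := hK.sup.ge.trans (sup_le inf_le_right fun x hx =>
    sc x (ES hx.1) (cn_cent hO hK.pc hx.2) ▸ one_mem K)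
  haveI : K.Normal := normalizer_eq_top_iff.1 (eq_top_iff.2 fun g _ => by
    obtain ⟨v, v1, v2⟩ := SetLike.not_le_iff_exists.1 (hK.conj (mem_top g)).ne
    exact cj_eq_iff.1 (eq_of_mem hK.pc (hK.conj (mem_top g)).pc (EK v1) v2).symm)
  have qs := hK.pc.compOf_of_core hO
  have hZ := ac_Z hO hK (eq_bot_iff.2 fun x hx => sc x (ES hx.1) (le_centralizer_iff.1
    (commutator_eq_bot_iff_le_centralizer.1 qs.commutator_FitOf) (FitOf_eq_OpOf hO ▸ hx.2)))
  haveI := isSimpleGroup_of_qs qs.2 (eq_bot_iff.2 (hZ ▸ inf_le_inf_left _ cent_le_cn))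
  have nc : ¬ IsMulCommutative K := fun e => QS.not_le_centralizer qs.2 (le_centralizer K)
  have go := gold' nc (hE.of_le EK le_top).subgroupOf fun e => hK.ne (by
    rw [← map_subgroupOf_eq_of_le EK, e, Subgroup.map_bot]; exact bot_le)
  have ni := (gt_of nc go).nice nc
  have hP := isSylIn_inf_normal T K
  set P := K ⊓ (T : Subgroup G)
  obtain ⟨V, os⟩ := ni.ex P hP
  have EP : E ≤ P := le_inf EK (ES.trans hT)
  obtain ⟨C, c1, c2, -, c3, -⟩ := ni.cyc V P os
  have cen := ni.cen V P os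
  obtain ⟨v, v1, v2⟩ := SetLike.not_le_iff_exists.1 hK.ne
  have v0 : v ≠ 1 := fun e => v2 (e ▸ one_mem _)
  have EV : E ≤ V := fun x hx => (os.mem x).2 ⟨EP hx, hE.sq x hx⟩
  obtain rfl : V = E := le_antisymm (fun w hw => by
    by_cases w0 : w = 1
    · exact w0 ▸ one_mem E
    obtain ⟨c, -, rfl⟩ := c3 v (EV v1) v0 w hw w0
    exact hE.cl T le_top T.2 (ES.trans hT) v v1 c trivial (os.le hw).2) EV
  set M := K ⊓ normalizer (P : Set G)
  have tr : ∀ w ∈ V, w ≠ 1 → ∀ x ∈ V, x ≠ 1 → ∃ m ∈ M, m * w * m⁻¹ = x := fun w w1 w0 x x1 x0 => by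
    obtain ⟨c, a, rfl⟩ := c3 w w1 w0 x x1 x0
    obtain ⟨n, n1, n2⟩ := (hP.of_le (le_inf hP.le cen) inf_le_left).frattini (le_normalizer_inf le_normalizer_of_normal
      (c2.trans (normalizer_le_normalizer_centralizer _)) a)
    exact ⟨n * c, ⟨mul_mem n1.1 (c1 a), n2⟩, by
      rw [show n * c * w * (n * c)⁻¹ = n * (c * w * c⁻¹) * n⁻¹ by group, ← n1.2 _ x1, mul_inv_cancel_right]⟩
  have fx : ∀ D : Subgroup G, M ≤ P ⊔ D → ∀ u ∈ P, D ≤ centralizer {u} → u = 1 := fun D d u u1 u2 => by_contra fun u0 => by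
    classical
    obtain ⟨w, w1, w2, -⟩ := exists_inv (hP.pg.to_le (zpowers_le.2 u1)) (zpowers_ne_bot.2 u0)
    have w3 : w ∈ V := (os.mem w).2 ⟨zpowers_le.2 u1 w1, by rw [← pow_two, ← w2, pow_orderOf_eq_one]⟩
    obtain ⟨x, x1, x2⟩ := exists_mem_ne_of_card (V := V) {1, w}
      (lt_of_le_of_lt Finset.card_le_two (by have := ni.four V P os; omega))
    simp only [Finset.mem_insert, Finset.mem_singleton, not_or] at x2
    obtain ⟨m, m1, rfl⟩ := tr w w3 (fun e => by simp [e] at w2) x x1 x2.1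
    refine x2.2 (mul_inv_eq_iff_eq_mul.2 (mem_centralizer_singleton_iff.1 ((sup_le (cen.trans
      (centralizer_le (Set.singleton_subset_iff.2 w3))) fun y hy => ?_ : P ⊔ D ≤ centralizer {w}) (d m1))))
    obtain ⟨k, rfl⟩ := mem_zpowers_iff.1 w1
    exact mem_centralizer_singleton_iff.2 (Commute.zpow_right (mem_centralizer_singleton_iff.1 (u2 hy)) k)
  have ir := irr_of nc go os
  have nP : (T : Subgroup G) ≤ normalizer (P : Set G) := le_normalizer_inf le_normalizer_of_normal le_normalizer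
  have cl : ∀ m ∈ M, ∀ x ∈ S ⊓ K, m * x * m⁻¹ ∈ S ⊓ K := fun m hm x hx => by
    have := conj_mem_of_mem_normalizer hm.2 (show x ∈ P from ⟨hx.2, hT hx.1⟩)
    exact ⟨hS.cl T le_top T.2 hT x hx.1 m trivial this.2, this.1⟩
  have alt : P ≤ S ∨ S ⊓ K ≤ V := or_iff_not_imp_right.2 fun e => by
    obtain ⟨y, y1, y2⟩ := SetLike.not_le_iff_exists.1 e
    exact (ir _ (le_inf ES EK) cl y ⟨⟨y1.2, hT y1.1⟩, y1⟩ y2).trans inf_le_left
  have SK : S ≤ K := by
    by_cases a : P ≤ S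
    · by_contra b
      obtain ⟨s, s1, s2, -, s3⟩ := exists_mem_normalizer_pow_mem hS.two (inf_lt_left.2 b)
      have PM : P ≤ M := le_inf hP.le le_normalizer
      obtain ⟨D, d1, d2, d3, d4⟩ := H1.exists_complement_le PM inf_le_right (coprime_card_of_isPGroup hP.pg
        (coprime_of_not_dvd (hP.of_le PM inf_le_left).not_dvd_relIndex))
      have sM : s ∈ normalizer (M : Set G) := le_normalizer_inf le_normalizer_of_normal
        (nP.trans le_normalizer) (hT s1)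
      have d5 : cj s D ≤ M := (cj_mono s d1).trans (cj_eq_iff.2 sM).le
      obtain ⟨n, n1, n2⟩ := H1.exists_conj_eq_of_le_sup (d5.trans inf_le_right) (d1.trans inf_le_right)
        (d4 ▸ (coprime_card_of_isPGroup hP.pg (coprime_of_not_dvd (hP.of_le PM inf_le_left).not_dvd_relIndex)).symm)
        (Or.inr (H1.isSolvable_of_isPGroup hP.pg)) (by
          rw [← cj_eq_iff.2 (nP (hT s1)), ← cj_sup, d2, cj_eq_iff.2 sM]; exact d1) (card_cj s D).le
      have n3 : n * s ∈ normalizer (D : Set G) := cj_eq_iff.1 ((cj_mul n s D).trans ((conj_smul_eq_map _ n).symm.trans n2))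
      have n4 : n * s * (n * s) ∈ P := by
        have := mul_mem (mul_mem n1 (conj_mem_of_mem_normalizer (nP (hT s1)) n1)) (show s ^ 2 ∈ P from ⟨s3.2, hT s3.1⟩)
        convert this using 1; rw [pow_two]; group
      have n5 := fx D d2.ge _ n4 fun y hy => mem_centralizer_singleton_iff.2 (commutatorElement_eq_one_iff_mul_comm.1
        (d3.le ⟨by simpa [commutatorElement_def] using
          P.mul_mem (conj_mem_of_mem_normalizer (d1 hy).2 n4) (P.inv_mem n4), by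
            simpa [commutatorElement_def, mul_assoc] using
              D.mul_mem hy (conj_mem_of_mem_normalizer (mul_mem n3 n3) (D.inv_mem hy))⟩))
      exact s2 ⟨s1, (Subgroup.mul_mem_cancel_left _ n1.1).1 (EK ((hm _).2 ⟨mul_mem (a n1) s1, n5⟩))⟩
    have b := alt.resolve_left a
    intro s s1
    have cm : ∀ x ∈ zpowers s, ∀ t ∈ P, ⁅x, t⁆ ∈ V := fun x hx t ht => b ⟨by
      simpa [commutatorElement_def, mul_assoc] using S.mul_mem (zpowers_le.2 s1 hx) (conj_mem_of_mem_normalizer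
        (hS.le_norm le_top T.2 hT ht.2) (S.inv_mem (zpowers_le.2 s1 hx))),
      K.mul_mem (Normal.conj_mem inferInstance t ht.1 x) (K.inv_mem ht.1)⟩
    obtain ⟨t, t1, t2, -, t3⟩ := exists_mem_normalizer_pow_mem hP.pg (lt_of_le_of_ne EP fun e => a (e.ge.trans ES))
    have sV : s ∈ centralizer (V : Set G) := fun w hw => by
      by_cases w0 : w = 1
      · simp [w0]
      obtain ⟨m, m1, rfl⟩ := tr _ t3 (fun e => t2 ((os.mem t).2 ⟨t1, pow_two t ▸ e⟩)) w hw w0
      have e1 := conj_mem_of_mem_normalizer m1.2 t1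
      rw [← conj_pow]
      generalize m * t * m⁻¹ = r at e1
      have e2 := cm s (mem_zpowers s) r e1
      have e3 := cen e1 _ e2
      have e4 := hE.sq _ e2
      calc r ^ 2 * s = ⁅s, r⁆ * ⁅s, r⁆ * r * r * s := by rw [e4, pow_two, one_mul]
        _ = ⁅s, r⁆ * (r * ⁅s, r⁆) * r * s := by rw [← e3]; group
        _ = _ := by simp only [commutatorElement_def, pow_two]; group
    obtain ⟨y, y1, y2⟩ := ni.inn V P os s (le_normalizer_of_normal (mem_top s))
      ((hS.two ⟨s, s1⟩).imp fun k hk => congrArg Subtype.val hk) sV (commutator_le.2 cm)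
    have y3 := fx M le_sup_right (y * y) (mul_mem y1 y1) fun m m1 => by
      have e1 := conj_mem_of_mem_normalizer m1.2 y1
      have e2 : m * s * m⁻¹ = m * y * m⁻¹ * (y⁻¹ * s) := by
        rw [mul_assoc (m * y), y2 _ (K.inv_mem m1.1)]; group
      have e3 : m * y * m⁻¹ * y⁻¹ ∈ V := b <| mem_inf.2 ⟨by
        have := S.mul_mem (hS.cl T le_top T.2 hT s s1 m trivial
          (e2 ▸ mul_mem e1.2 (mul_mem (inv_mem y1.2) (hT s1)))) (S.inv_mem s1)
        rw [e2] at this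
        convert this using 1; group, K.mul_mem e1.1 (K.inv_mem y1.1)⟩
      have e4 := cen y1 _ e3
      have e5 := hE.sq _ e3
      rw [mem_centralizer_singleton_iff, ← mul_inv_eq_iff_eq_mul, ← conj_mul]
      generalize m * y * m⁻¹ = r at e4 e5
      calc r * r = r * y⁻¹ * (y * (r * y⁻¹)) * y := by group
        _ = r * y⁻¹ * (r * y⁻¹) * y * y := by rw [← e4]; group
        _ = _ := by rw [e5, one_mul]
    have y4 := ES ((os.mem y).2 ⟨y1, y3⟩)
    exact inv_mul_eq_one.1 (sc _ (mul_mem (inv_mem y4) s1) y2) ▸ y1.1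
  have XP : (T : Subgroup G) ⊓ Kc S ⊤ ≤ P := le_inf (inf_le_right.trans (Kc_top_le SK)) inf_le_left
  exact ⟨fun t ht e => ES ((os.mem t).2 ⟨XP ht, e⟩), alt.imp XP.trans (le_inf le_rfl SK).trans⟩

theorem inj_O {P : Subgroup G} (hP : IsPGroup 2 P) (hS : S ≤ P) {x : G} (hx : x ∈ P)
    (h : QuotientGroup.mk' (pPrimeCore 2 G) x ∈ S.map (QuotientGroup.mk' (pPrimeCore 2 G))) : x ∈ S := by
  obtain ⟨s, hs, e⟩ := h
  exact inv_mul_eq_one.1 ((inf_eq_bot_of_odd hP (odd_O (X := ⊤))).le ⟨P.mul_mem (P.inv_mem (hS hs)) hx,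
    OqOf_top (G := G) 2 ▸ QuotientGroup.eq.1 e⟩) ▸ hs

theorem sq_O (hS : IsPGroup 2 S) {x : G} (hx : x ∈ S)
    (h : QuotientGroup.mk' (pPrimeCore 2 G) x * QuotientGroup.mk' (pPrimeCore 2 G) x = 1) : x * x = 1 :=
  inj_O hS bot_le (mul_mem hx hx) (by rw [map_mul, h]; exact one_mem _)

theorem rank_one (T : Sylow 2 G) (hS : SC S ⊤) (hT : S ≤ T)
    (hu : ∀ x ∈ S, ∀ y ∈ S, x * x = 1 → y * y = 1 → x ≠ 1 → y ≠ 1 → x = y) : (T : Subgroup G) ⊓ Kc S ⊤ ≤ S := by
  have h0 := isSylIn_inf_normal T (Kc S ⊤)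
  obtain ⟨h1, h2⟩ := sc_res hS T.2 hT h0 inf_le_right
  rw [inf_eq_left.2 (le_inf le_Kc_top hT)] at h1 h2
  have h3 : Kc (S.subgroupOf (Kc S ⊤)) ⊤ = ⊤ := map_injective (Kc S ⊤).subtype_injective (by
    rw [h2, ← MonoidHom.range_eq_map, range_subtype]
    exact le_antisymm Kc_le (Kc_le_iff.2 fun x a b => mem_Kc a (mem_Kc a b)))
  obtain ⟨P, hP⟩ := h0.exists_sylow
  have h4 : S.subgroupOf (Kc S ⊤) ≤ P := fun x hx => hP.ge ⟨x.2, hT hx⟩
  have hπ := QuotientGroup.mk'_surjective (pPrimeCore 2 (Kc S ⊤))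
  have h5 := rank1 (P.mapSurjective hπ) (sc_map hπ h1) (map_mono h4) O_quot
    (by rw [Kc_map hπ, h3, map_top_of_surjective _ hπ]) (by
      rintro _ ⟨x, hx, rfl⟩ _ ⟨y, hy, rfl⟩ a b c d
      rw [show x = y from Subtype.ext (hu x hx y hy (congrArg Subtype.val (sq_O h1.two hx a))
        (congrArg Subtype.val (sq_O h1.two hy b)) (fun e => c (by rw [show x = 1 from Subtype.ext e, map_one]))
        fun e => d (by rw [show y = 1 from Subtype.ext e, map_one]))])
  intro t ht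
  have h6 : (⟨t, ht.2⟩ : Kc S ⊤) ∈ (P : Subgroup (Kc S ⊤)) := hP.ge ⟨ht.2, ht.1⟩
  exact inj_O P.2 h4 h6 (h5 (mem_map_of_mem _ h6))

theorem rank_two (T : Sylow 2 G) (hS : SC S ⊤) (hT : S ≤ T) (hE : ES E ⊤)
    (hm : ∀ x, x ∈ E ↔ x ∈ S ∧ x * x = 1) (h2 : 2 < Nat.card E) {H : Subgroup G} (hH : H ≠ ⊤)
    (hC : ∀ s ∈ S, s ≠ 1 → centralizer {s} ≤ H) (hN : normalizer (E : Set G) ≤ H) :
    (∀ t ∈ (T : Subgroup G) ⊓ Kc S ⊤, t * t = 1 → t ∈ S) ∧ ((T : Subgroup G) ⊓ Kc S ⊤ ≤ S ∨ S ≤ E) := by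
  have ES : E ≤ S := fun x hx => ((hm x).1 hx).1
  obtain ⟨V, v1, v2⟩ := exists_klein_of_sq hE.sq h2
  have o : Odd (Nat.card (pPrimeCore 2 G)) := OqOf_top (G := G) 2 ▸ odd_O
  have hπ := QuotientGroup.mk'_surjective (pPrimeCore 2 G)
  have hk := QuotientGroup.ker_mk' (pPrimeCore 2 G)
  have OH : pPrimeCore 2 G ≤ H := GW.le_of_klein_gen v2 le_normalizer_of_normal o fun a ha a1 =>
    inf_le_right.trans (hC a (ES (v1 ha)) a1)
  have cp : ∀ A : Subgroup G, IsPGroup 2 A → (Nat.card A).Coprime (Nat.card (QuotientGroup.mk' (pPrimeCore 2 G)).ker) :=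
    fun A a => coprime_card_of_isPGroup a (by rw [hk]; exact Nat.coprime_two_right.2 o)
  obtain ⟨a, b⟩ := core (H := H.map (QuotientGroup.mk' _)) (T.mapSurjective hπ) (sc_map hπ hS) (map_mono hT) O_quot
    (E := E.map (QuotientGroup.mk' _)) ⟨sc_map hπ hE.toSC, by
      rintro _ ⟨x, hx, rfl⟩; rw [← map_mul, hE.sq x hx, map_one]⟩
    (fun x => ⟨by
      rintro ⟨x, hx, rfl⟩
      exact ⟨mem_map_of_mem _ (ES hx), by rw [← map_mul, hE.sq x hx, map_one]⟩, by
      rintro ⟨⟨x, hx, rfl⟩, e⟩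
      exact mem_map_of_mem _ ((hm x).2 ⟨hx, sq_O hS.two hx e⟩)⟩)
    (fun e => hH (by rw [← comap_map_eq_self (hk.le.trans OH), e, comap_top])) (by
      rintro _ ⟨s, hs, rfl⟩ s1
      have p := hS.two.to_le (zpowers_le.2 hs)
      rw [← centralizer_zpowers, ← MonoidHom.map_zpowers,
        ← map_centralizer_of_surjective hπ (cp _ p) (Or.inl (H1.isSolvable_of_isPGroup p)), centralizer_zpowers]
      exact map_mono (hC s hs fun e => s1 (by rw [e, map_one]))) (by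
      rw [← map_normalizer_of_surjective hπ (cp _ hE.two) (Or.inl (H1.isSolvable_of_isPGroup hE.two))]
      exact map_mono hN)
  have m : ∀ t ∈ (T : Subgroup G) ⊓ Kc S ⊤, QuotientGroup.mk' (pPrimeCore 2 G) t ∈ (T.mapSurjective hπ : Subgroup _) ⊓
      Kc (S.map (QuotientGroup.mk' (pPrimeCore 2 G))) ⊤ := fun t ht =>
    ⟨mem_map_of_mem _ ht.1, Kc_map (A := S) hπ ▸ mem_map_of_mem _ ht.2⟩
  exact ⟨fun t ht e => inj_O T.2 hT ht.1 (a _ (m t ht) (by rw [← map_mul, e, map_one])),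
    b.imp (fun e t ht => inj_O T.2 hT ht.1 (e (m t ht))) fun e s hs => inj_O hS.two ES hs (e (mem_map_of_mem _ hs))⟩

theorem main (T : Sylow 2 G) (hS : S ≠ ⊥) (hsc : IsStronglyClosed S (T : Subgroup G)) {H : Subgroup G} (hH : H ≠ ⊤)
    (hC : ∀ s ∈ S, s ≠ 1 → centralizer ({s} : Set G) ≤ H) (hN : normalizer ((omegaOne 2 S : Subgroup G) : Set G) ≤ H) :
    IsStronglyEmbedded ((H ⊓ Kc S ⊤).subgroupOf (Kc S ⊤)) ∧
      (S = (T : Subgroup G) ⊓ Kc S ⊤ ∨ S = omegaOne 2 ((T : Subgroup G) ⊓ Kc S ⊤)) ∧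
      (PRankLE 2 1 S → S = (T : Subgroup G) ⊓ Kc S ⊤) := by
  have hT := hsc.1
  have sc := (sc_iff T hT).2 hsc
  have nS : normalizer (S : Set G) ≤ H := fun g hg => hN (mem_normalizer_of_cj_le (cj_le_iff'.2 ((closure_le _).2
    fun x hx => H11.mem_cj.2 (subset_closure ⟨by rw [inv_inv]; exact conj_mem_of_mem_normalizer hg hx.1, by
      rw [inv_inv, conj_pow, hx.2, mul_one, mul_inv_cancel]⟩))))
  obtain ⟨E, hE, hm⟩ := sc_omega sc fun a ha a2 b hb b2 => ab_top T hsc nS (fun a ha a1 _ => hC a ha a1) hH ha a2 hb b2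
  have ES : E ≤ S := fun x hx => ((hm x).1 hx).1
  have SX : S ≤ (T : Subgroup G) ⊓ Kc S ⊤ := le_inf hT le_Kc_top
  have om : ∀ P : Subgroup G, S ≤ P → (∀ t ∈ P, t * t = 1 → t ∈ S) → omegaOne 2 P = E := fun P a b =>
    le_antisymm ((closure_le _).2 fun x hx => (hm x).2 ⟨b x hx.1 (pow_two x ▸ hx.2), pow_two x ▸ hx.2⟩)
      fun x hx => subset_closure ⟨a (ES hx), (pow_two x).trans (hE.sq x hx)⟩
  rw [om S le_rfl fun _ a _ => a] at hN
  have r1 : Nat.card E ≤ 2 → (T : Subgroup G) ⊓ Kc S ⊤ ≤ S := fun e => rank_one T sc hT fun x hx y hy a b c d => by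
    classical
    by_contra f
    have := Nat.card_le_card_of_injective (fun i : Fin 3 => (![1, ⟨x, (hm x).2 ⟨hx, a⟩⟩, ⟨y, (hm y).2 ⟨hy, b⟩⟩] i : E))
      fun i j => by fin_cases i <;> fin_cases j <;> simp [Subtype.ext_iff, c, d, f, c.symm, d.symm, Ne.symm f]
    rw [Nat.card_fin] at this
    omega
  obtain ⟨a, b⟩ : (∀ t ∈ (T : Subgroup G) ⊓ Kc S ⊤, t * t = 1 → t ∈ S) ∧ ((T : Subgroup G) ⊓ Kc S ⊤ ≤ S ∨ S ≤ E) := by
    by_cases e : Nat.card E ≤ 2
    · exact ⟨fun t ht _ => r1 e ht, Or.inl (r1 e)⟩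
    · exact rank_two T sc hT hE hm (not_le.1 e) hH hC hN
  refine ⟨?_, b.imp (le_antisymm SX) fun e => le_antisymm e ES ▸ (om _ SX a).symm, fun e => le_antisymm SX (r1 ?_)⟩
  · have h0 := isSylIn_inf_normal T (Kc S ⊤)
    have TH : (T : Subgroup G) ≤ H := (sc.le_norm le_top T.2 hT).trans nS
    have h1 := h0.of_le (le_inf (inf_le_right.trans TH) inf_le_left) inf_le_right
    obtain ⟨z, z1, z2, -⟩ := exists_inv sc.two hS
    refine isStronglyEmbedded_iff.2 ⟨fun e => hH (eq_top_iff.2 fun g _ => ?_), ?_, fun t ht t2 g hg => ⟨?_, g.2⟩⟩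
    · obtain ⟨n, n1, n2⟩ := h0.frattini (le_normalizer_of_normal (mem_top g))
      exact (Subgroup.mul_mem_cancel_left _ (subgroupOf_eq_top.1 e n1).1).1
        (nS (sc.norm le_top h0.pg (le_inf le_Kc_top hT) ⟨trivial, n2⟩))
    · rw [card_subgroupOf inf_le_right, even_iff_two_dvd, ← z2]
      exact Subgroup.orderOf_dvd_natCard _ (show z ∈ H ⊓ Kc S ⊤ from ⟨TH (hT z1), le_Kc_top z1⟩)
    · have t3 : orderOf (t : G) = 2 := (orderOf_coe t).trans t2
      have tr : ∀ x ∈ H ⊓ Kc S ⊤, orderOf x = 2 → ∃ k ∈ H, k * x * k⁻¹ ∈ E := fun x hx x2 => by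
        obtain ⟨k, k1, k2⟩ := h1.exists_conj_invol_mem x2 hx
        have : k * x * k⁻¹ * (k * x * k⁻¹) = 1 := by rw [conj_mul, ← pow_two, ← x2, pow_orderOf_eq_one, mul_one, mul_inv_cancel]
        exact ⟨k, k1.1, (hm _).2 ⟨a _ ⟨k2.2, k2.1⟩ this, this⟩⟩
      obtain ⟨k, k1, k2⟩ := tr t ht t3
      obtain ⟨l, l1, l2⟩ := tr (g * t * (g : G)⁻¹) hg (by rw [H11.orderOf_conj, t3])
      obtain ⟨n, n1, n2⟩ := hE.fusion k2 (g := l * g * k⁻¹) trivial (by convert l2 using 1; simp [mul_assoc])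
      have := hC _ (ES k2) (fun e => by simp [show (t : G) = 1 by simpa using e] at t3)
        (mem_centralizer_singleton_iff.2 (show n⁻¹ * (l * g * k⁻¹) * _ = _ * _ by
          rw [← mul_inv_eq_iff_eq_mul, mul_inv_rev, mul_assoc n⁻¹, mul_assoc n⁻¹, ← mul_assoc _ _ n⁻¹⁻¹, ← n2]; group))
      exact (Subgroup.mul_mem_cancel_left _ l1).1 ((Subgroup.mul_mem_cancel_right _ (inv_mem k1)).1
        ((Subgroup.mul_mem_cancel_left _ (inv_mem (hN n1.2))).1 this))
  · exact card_subgroupOf ES ▸ e (E.subgroupOf S) ⟨⟨fun x y => Subtype.ext (Subtype.ext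
      (mem_centralizer_singleton_iff.1 (hE.le_cent y.2 x.2)))⟩⟩ fun x hx => Subtype.ext ((pow_two _).trans (hE.sq _ hx))

end Cfsg.Agent.SCQ
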