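import Cfsg.Agent.H3.Essential
import Cfsg.Agent.JL.L0
import Cfsg.Agent.BG.S01a

/-! Fusion in a Sylow `2`-subgroup whose centre has index four. -/

set_option autoImplicit false

namespace Cfsg.Agent.Zi

open Subgroup Cfsg.Agent.H20 Cfsg.Agent.H21 Cfsg.Agent.BG Cfsg.Agent.JL
open scoped commutatorElement

variable {G : Type*} [Group G]

theorem sc_of_rad [Finite G] {p : ℕ} [Fact p.Prime] (P : Sylow p G) {X : Subgroup G} (hX : X ≤ P)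
    (h1 : N⟦(P : Subgroup G)⟧ ≤ N⟦X⟧) (h2 : ∀ D < (P : Subgroup G), H3.Radical p P D →
      ∀ g ∈ N⟦D⟧, ∀ x ∈ X, x ∈ D → g * x * g⁻¹ ∈ X) : IsStronglyClosed X (P : Subgroup G) := by
  refine ⟨hX, fun a ha g hg => ?_⟩
  obtain ⟨c, hc, y, hy, e⟩ := H3.exists_chain_of_essLike P
    (F := fun D x => (D ≤ P ∧ H3.Radical p (P : Subgroup G) D) ∧ x ∈ N⟦D⟧)
    (fun D x h => ⟨h.2, h.1, inv_mem h.2⟩) (fun n hn => ⟨⟨le_rfl, H3.radical_self _⟩, hn⟩)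
    (fun B H hB hfn hE hC hF => by
      by_contra hne
      exact hne fun x hx => hF x ⟨⟨hB.le, hE.radical hB hfn hC hne⟩, hx⟩)
    (A := {a}) (g := g⁻¹) (Set.singleton_subset_iff.2 (hX ha))
    (by rintro _ ⟨_, rfl, rfl⟩; simp only [inv_inv]; exact hg)
  have key : ∀ {A : Set G} {y : G}, H3.Chain (fun D x => (D ≤ P ∧ H3.Radical p P D) ∧ x ∈ N⟦D⟧) A y →
      ∀ b ∈ A, b ∈ X → y⁻¹ * b * y ∈ X := by
    intro A y hy
    induction hy with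
    | nil => simp
    | @cons A D x g h3 h4 _ ih =>
      intro b hb hbX
      have h5 : x⁻¹ * b * x ∈ X := by
        rcases h3.1.1.eq_or_lt with e | e
        · exact conj_mem_of_norm' (h1 (e ▸ h3.2)) hbX
        · simpa using h2 D e h3.1.2 _ (inv_mem h3.2) b hbX (h4 hb)
      simpa [mul_assoc] using ih _ ⟨b, hb, rfl⟩ h5
  have := key hy a rfl ha
  rw [← inv_inv g, e, inv_inv, mul_inv_rev, mul_assoc y⁻¹, mul_assoc y⁻¹, ← mul_assoc (c⁻¹ * a), mul_assoc c⁻¹,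
    hc a rfl, inv_mul_cancel_left, ← mul_assoc]
  exact this

theorem rel2 {H K : Subgroup G} (h : H.relIndex K = 2) {a b : G} (ha : a ∈ K) (hb : b ∈ K) (h1 : a ∉ H)
    (h2 : b ∉ H) : a * b ∈ H :=
  (mul_mem_iff_of_index_two (H := H.subgroupOf K) h (a := ⟨a, ha⟩) (b := ⟨b, hb⟩)).2 (iff_of_false h1 h2)

theorem cm2 {a b : G} (ha : orderOf a = 2) (hb : orderOf b = 2) (h : a * b * (a * b) = 1) : a * b = b * a := by
  rw [eq_inv_of_mul_eq_one_left h, mul_inv_rev, inv2 ha, inv2 hb]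

theorem cjV (g a b : G) : cj g (V4 a b) = V4 (g * a * g⁻¹) (g * b * g⁻¹) := by
  rw [V4, cj_closure, Set.image_pair]; rfl

/-- `P / Z(P)` is a four-group and `P' = ⟨c⟩` -/
structure Z4 (P : Subgroup G) (c : G) : Prop where
  oc : orderOf c = 2
  com : ∀ x ∈ P, ∀ y ∈ P, x * y ≠ y * x → x * y * x⁻¹ = c * y
  idz : ∀ x ∈ P, ∀ a ∈ P, x ∉ C⟦P⟧ → a ∉ C⟦P⟧ → a * x = x * a → a * x ∈ C⟦P⟧
  ex : ¬ P ≤ C⟦P⟧

theorem exists_nc {P : Subgroup G} {x : G} (h : x ∉ C⟦P⟧) : ∃ y ∈ P, y * x ≠ x * y := by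
  by_contra! h1; exact h (mem_cent.2 h1)

theorem exists_Z4 {P : Subgroup G} (h : (P ⊓ C⟦P⟧).relIndex P = 4) (hP : ¬ P ≤ C⟦P⟧) : ∃ c, Z4 P c := by
  have h1 : ∀ x ∈ P, x ∉ C⟦P⟧ → (P ⊓ C⟦P⟧).relIndex (P ⊓ C₁⟦x⟧) = 2 ∧ C₁⟦x⟧.relIndex P = 2 := fun x hx h2 => by
    have h3 := relIndex_mul_relIndex (P ⊓ C⟦P⟧) (P ⊓ C₁⟦x⟧) P (inf_le_inf_left _ (cent_le_cent1 hx)) inf_le_left
    rw [h, inf_relIndex_left] at h3
    have h4 : (P ⊓ C⟦P⟧).relIndex (P ⊓ C₁⟦x⟧) ≠ 1 := fun e => h2 (relIndex_eq_one.1 e ⟨hx, self_mem_cent1 x⟩).2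
    have h5 : C₁⟦x⟧.relIndex P ≠ 1 := fun e => h2 (le_cent1_iff.1 (relIndex_eq_one.1 e))
    have h6 := Nat.le_of_dvd (by decide) (Dvd.intro _ h3)
    generalize (P ⊓ C⟦P⟧).relIndex (P ⊓ C₁⟦x⟧) = m at *
    generalize C₁⟦x⟧.relIndex P = n at *
    interval_cases m <;> omega
  have idz : ∀ x ∈ P, ∀ a ∈ P, x ∉ C⟦P⟧ → a ∉ C⟦P⟧ → a * x = x * a → a * x ∈ C⟦P⟧ := fun x hx a ha h2 h3 e =>
    (rel2 (h1 x hx h2).1 ⟨ha, mem_cent1.2 e⟩ ⟨hx, self_mem_cent1 x⟩ (fun e => h3 e.2) fun e => h2 e.2).2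
  have k1 : ∀ {x y z}, x ∈ P → y ∈ P → z ∈ P → x * y ≠ y * x → x * z ≠ z * x → ⁅x, y⁆ = ⁅x, z⁆ :=
    fun {x y z} hx hy hz e1 e2 => by
      have := mem_cent1.1 (rel2 (h1 x hx fun e => e1 (mem_cent.1 e y hy).symm).2 (inv_mem hy) hz
        (fun e => e1 (mem_cent1.1 (inv_mem_iff.1 e)).symm) fun e => e2 (mem_cent1.1 e).symm)
      calc _ = x * y * x⁻¹ * (y⁻¹ * z) * z⁻¹ := by rw [commutatorElement_def]; group
        _ = x * y * x⁻¹ * (y⁻¹ * z * x) * x⁻¹ * z⁻¹ := by group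
        _ = _ := by rw [this, commutatorElement_def]; group
  have k2 : ∀ {x y z}, x ∈ P → y ∈ P → z ∈ P → x * z ≠ z * x → y * z ≠ z * y → ⁅x, z⁆ = ⁅y, z⁆ :=
    fun hx hy hz e1 e2 => by rw [← commutatorElement_inv, k1 hz hx hy e1.symm e2.symm, commutatorElement_inv]
  obtain ⟨b, hb, h2⟩ := SetLike.not_le_iff_exists.1 hP
  obtain ⟨a, ha, e⟩ := exists_nc h2
  have e1 : a * (a * b) ≠ a * b * a := by rw [mul_assoc]; exact fun e1 => e (mul_left_cancel e1)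
  have e2 : b * (a * b) ≠ a * b * b := by rw [← mul_assoc]; exact fun e1 => e (mul_right_cancel e1).symm
  have e3 : ⁅b, a⁆ = ⁅a, b⁆ := by
    rw [k1 ha hb (mul_mem ha hb) e e1, k2 ha hb (mul_mem ha hb) e1 e2, k1 hb ha (mul_mem ha hb) e.symm e2]
  refine ⟨⁅a, b⁆, ord2 (fun e4 => e (commutatorElement_eq_one_iff_mul_comm.1 e4)) (by
    nth_rw 1 [← e3]; rw [← commutatorElement_inv, inv_mul_cancel]), fun x hx y hy e4 => ?_, idz, hP⟩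
  rw [← mul_inv_eq_iff_eq_mul, ← commutatorElement_def]
  by_cases e5 : x * b = b * x
  · by_cases e6 : x * a = a * x
    · have h3 : x ∉ C⟦P⟧ := fun e => e4 (mem_cent.1 e y hy).symm
      have h4 := mem_cent.1 (idz x hx a ha h3 (fun e7 => e (mem_cent.1 e7 b hb).symm) e6.symm) b hb
      rw [mul_assoc, e5, ← mul_assoc, ← mul_assoc] at h4
      exact absurd (mul_right_cancel h4).symm e
    · rw [k1 hx hy ha e4 e6, k2 hx hb ha e6 e.symm, e3]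
  · rw [k1 hx hy hb e4 e5, k2 hx ha hb e5 e]

/-- the candidates for essential subgroups -/
structure Act (P : Subgroup G) (c : G) (D : Subgroup G) : Prop where
  lt : D < P
  cen : P ⊓ C⟦D⟧ ≤ D
  mv : ∃ g ∈ N⟦D⟧, g * c * g⁻¹ ≠ c

/-- the elements of `Z(P)` centralized by all `N(D)`-conjugates of `P` -/
def Cr (P D : Subgroup G) : Subgroup G := P ⊓ C⟦P⟧ ⊓ ⨅ g ∈ N⟦D⟧, C⟦cj g P⟧

theorem mem_Cr {P D : Subgroup G} {w : G} :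
    w ∈ Cr P D ↔ w ∈ P ⊓ C⟦P⟧ ∧ ∀ g ∈ N⟦D⟧, g⁻¹ * w * g ∈ C⟦P⟧ := by
  simp only [Cr, mem_inf (p := P ⊓ C⟦P⟧), mem_iInf, ← cj_cent, mem_cj]

/-- the part of `Z(P)` that is not moved out of `Z(P)` -/
def C0 (P : Subgroup G) (c : G) : Subgroup G := P ⊓ C⟦P⟧ ⊓ ⨅ D, ⨅ _ : Act P c D, Cr P D

theorem mem_C0 {P : Subgroup G} {c w : G} : w ∈ C0 P c ↔ w ∈ P ⊓ C⟦P⟧ ∧ ∀ D, Act P c D → w ∈ Cr P D := by
  simp only [C0, mem_inf (p := P ⊓ C⟦P⟧), mem_iInf]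

namespace Z4
variable {P D : Subgroup G} {c : G} (h : Z4 P c)
include h

theorem exn : ∃ x ∈ P, ∃ y ∈ P, x * y ≠ y * x := by
  obtain ⟨b, hb, h2⟩ := SetLike.not_le_iff_exists.1 h.ex
  obtain ⟨a, ha, e⟩ := exists_nc h2
  exact ⟨a, ha, b, hb, e⟩

theorem eq {x y : G} (hx : x ∈ P) (hy : y ∈ P) (e : x * y ≠ y * x) : c = x * y * x⁻¹ * y⁻¹ := by
  rw [h.com x hx y hy e, mul_inv_cancel_right]

theorem cP : c ∈ P := by
  obtain ⟨x, hx, y, hy, e⟩ := h.exn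
  rw [h.eq hx hy e]; exact mul_mem (mul_mem (mul_mem hx hy) (inv_mem hx)) (inv_mem hy)

theorem fix {n : G} (hn : n ∈ N⟦P⟧) : n * c * n⁻¹ = c := by
  obtain ⟨x, hx, y, hy, e⟩ := h.exn
  nth_rw 2 [h.eq (conj_mem_of_norm hn hx) (conj_mem_of_norm hn hy) (by simpa using e)]
  rw [h.eq hx hy e]; group

theorem cZ : c ∈ P ⊓ C⟦P⟧ := ⟨h.cP, mem_cent.2 fun _ hx => comm_of_conj_eq (h.fix (le_normalizer hx))⟩

theorem cases {x y : G} (hx : x ∈ P) (hy : y ∈ P) : x * y * x⁻¹ = y ∨ x * y * x⁻¹ = c * y :=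
  (em (x * y = y * x)).imp conj_eq_of_comm (h.com x hx y hy)

theorem two {x a b : G} (hx : x ∈ P) (ha : a ∈ P) (hb : b ∈ P) (h1 : a * x ≠ x * a) (h2 : b * x ≠ x * b) :
    a * b * x = x * (a * b) := by
  refine comm_of_conj_eq ?_
  calc _ = a * (b * x * b⁻¹) * a⁻¹ := by group
    _ = a * c * a⁻¹ * (a * x * a⁻¹) := by rw [h.com b hb x hx h2]; group
    _ = x := by rw [h.fix (le_normalizer ha), h.com a ha x hx h1, ← mul_assoc, sq2 h.oc, one_mul]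

theorem of_comm {H : Subgroup G} (hZ : P ⊓ C⟦P⟧ ≤ H) {x g : G} (hx : x ∈ P) (h1 : x ∉ C⟦P⟧) (hxH : x ∈ H)
    (hg : g ∈ P) (e : g * x = x * g) : g ∈ H := by
  by_cases h2 : g ∈ C⟦P⟧
  exacts [hZ ⟨hg, h2⟩, (mul_mem_cancel_right hxH).1 (hZ ⟨mul_mem hg hx, h.idz x hx g hg h1 h2 e⟩)]

theorem gen {H : Subgroup G} (hZ : P ⊓ C⟦P⟧ ≤ H) {x y : G} (hx : x ∈ P) (hy : y ∈ P) (e : y * x ≠ x * y)
    (hxH : x ∈ H) (hyH : y ∈ H) : P ≤ H := fun g hg => by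
  have h1 : x ∉ C⟦P⟧ := fun e1 => e (mem_cent.1 e1 y hy)
  by_cases e1 : g * x = x * g
  · exact h.of_comm hZ hx h1 hxH hg e1
  · exact (mul_mem_cancel_right hyH).1 (h.of_comm hZ hx h1 hxH (mul_mem hg hy) (h.two hx hg hy e1 e))

theorem act_of_rad [Finite G] (hD : D < P) (hr : H3.Radical 2 P D) : Act P c D := by
  refine ⟨hD, hr.centric, by_contra fun h1 => hD.not_ge fun x hx => ?_⟩
  have hc : zpowers c ≤ D := zpowers_le.2 (hr.centric ⟨h.cP, cent_anti hD.le h.cZ.2⟩)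
  have h2 : ∀ b ∈ D, ⁅b, x⁆ ∈ zpowers c := fun b hb => by
    rw [commutatorElement_def]
    rcases h.cases (hD.le hb) hx with e | e <;> rw [e] <;> simp
  refine hr.mem_of_stabilizes (isPGroup_of_card_prime (by rw [Nat.card_zpowers, h.oc])) (fun g hg =>
    norm_zpowers_of_comm (comm_of_conj_eq (by_contra fun e => h1 ⟨g, hg, e⟩))) hx
    (mem_norm_of_forall fun b hb => ?_) (cent_zpowers c ▸ mem_cent1.2 (mem_cent.1 h.cZ.2 x hx)) h2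
  simpa [commutatorElement_def, mul_assoc] using mul_mem (inv_mem (hc (h2 b hb))) hb

theorem act_cj {n : G} (hn : n ∈ N⟦P⟧) (hD : Act P c D) : Act P c (cj n D) := by
  obtain ⟨g, hg, e⟩ := hD.mv
  refine ⟨lt_of_le_of_ne (cj_le_of_mem_norm hn hD.lt.le) fun e1 => hD.lt.ne
    (cj_injective n (e1.trans (cj_eq_of_mem_norm hn).symm)), ?_, n * g * n⁻¹, cj_norm n D ▸ conj_mem_cj.2 hg,
    fun e1 => e ?_⟩
  · rw [← cj_eq_of_mem_norm hn, ← cj_cent, ← cj_inf]; exact cj_mono n hD.cen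
  · nth_rw 1 [← h.fix hn] at e1
    calc _ = n⁻¹ * (n * g * n⁻¹ * (n * c * n⁻¹) * (n * g * n⁻¹)⁻¹) * n⁻¹⁻¹ := by group
      _ = _ := by rw [e1, h.fix (inv_mem hn)]

variable (hD : Act P c D)
include hD

omit h in
theorem ZD : P ⊓ C⟦P⟧ ≤ D := (inf_le_inf_left _ (cent_anti hD.lt.le)).trans hD.cen

theorem comm {x y : G} (hx : x ∈ D) (hy : y ∈ D) : y * x = x * y :=
  by_contra fun e => hD.lt.not_ge (h.gen (ZD hD) (hD.lt.le hx) (hD.lt.le hy) e hx hy)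

theorem mem {x g : G} (hx : x ∈ D) (h1 : x ∉ C⟦P⟧) (hg : g ∈ P) (e : g * x = x * g) : g ∈ D :=
  h.of_comm (ZD hD) (hD.lt.le hx) h1 hx hg e

theorem twoD {x y : G} (hx : x ∈ D) (hy : y ∈ D) (h1 : x ∉ C⟦P⟧) (h2 : y ∉ C⟦P⟧) : x * y ∈ C⟦P⟧ :=
  h.idz y (hD.lt.le hy) x (hD.lt.le hx) h2 h1 (h.comm hD hy hx)

theorem cD : c ∈ D := ZD hD h.cZ

variable [Finite G]

theorem PN : P ≤ N⟦D⟧ := fun x hx => mem_norm_of_forall fun b hb => by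
  rcases h.cases hx (hD.lt.le hb) with e | e <;> rw [e]
  exacts [hb, mul_mem (h.cD hD) hb]

omit hD in
theorem commg {A : Subgroup G} (hA : A ≤ P) : ⁅A, P⁆ ≤ zpowers c := commutator_le.2 fun a ha x hx => by
  rw [commutatorElement_def]
  rcases h.cases (hA ha) hx with e | e <;> rw [e] <;> simp

variable (hP : SylowOf 2 P ⊤)
include hP

theorem key {g : G} (hg : g ∈ N⟦D⟧) (hc : g * c * g⁻¹ ∈ C⟦P⟧) {x : G} (hx : x ∈ P) :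
    ∃ k ∈ C⟦D⟧, ∃ p ∈ P, k * p = g * x * g⁻¹ := by
  set c' := g * c * g⁻¹ with hc'
  have hc'D : c' ∈ D := conj_mem_of_norm hg (h.cD hD)
  have hH : P ⊔ cj g P ≤ N⟦D⟧ := sup_le (h.PN hD) (cj_le_of_mem hg (h.PN hD))
  have h1 : ⁅D, cj g P⁆ ≤ zpowers c' := by
    rw [← cj_zpowers, ← cj_eq_of_mem_norm hg, ← cj_commutator]; exact cj_mono g (h.commg hD.lt.le)
  have h2 : P ⊔ cj g P ≤ C⟦zpowers c'⟧ := by
    rw [cent_zpowers]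
    exact sup_le (le_cent1_iff.2 hc) (cj_cent1 g c ▸ cj_mono g (le_cent1_iff.2 h.cZ.2))
  have h3 : zpowers c ⊔ zpowers c' ≤ D := sup_le (zpowers_le.2 (h.cD hD)) (zpowers_le.2 hc'D)
  have h4 : P ≤ C⟦zpowers c ⊔ zpowers c'⟧ := le_cent_sup (cent_zpowers c ▸ le_cent1_iff.2 h.cZ.2)
    (le_sup_left.trans h2)
  have h5 : ⁅zpowers c ⊔ zpowers c', cj g P⁆ ≤ zpowers c' := (commutator_mono h3 le_rfl).trans h1
  have h6 : ⁅D, P ⊔ cj g P⁆ ≤ zpowers c ⊔ zpowers c' := commg_sup_right_le (norm_of_cent h4)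
    (norm_of_commg_le (h5.trans le_sup_right)) ((h.commg hD.lt.le).trans le_sup_left) (h1.trans le_sup_right)
  have h7 : ⁅zpowers c ⊔ zpowers c', P ⊔ cj g P⁆ ≤ zpowers c' := commg_sup_right_le
    (norm_of_cent (le_sup_left.trans h2)) (norm_of_cent (le_sup_right.trans h2))
    ((commg_eq_bot.2 (cent_symm h4)).trans_le bot_le) h5
  obtain ⟨k, hk, p, hp, e⟩ := (hP.of_le le_sup_left le_top).prod_of_relIndex (K := (P ⊔ cj g P) ⊓ C⟦D⟧) inf_le_left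
    (fun q hq hd => by_contra fun h8 => by
      haveI := Fact.mk hq
      obtain ⟨R, hR⟩ := exists_sylowOf q (P ⊔ cj g P)
      have h9 := coprime_of_isPGroup_ne (hP.isPGroup.to_le hD.lt.le) hR.isPGroup (Ne.symm h8)
      refine hR.not_dvd (hd.trans (relIndex_dvd_of_le_left _ (le_inf hR.le
        (coprime_cent_of_commg_cent (hR.le.trans hH) h9 ?_))))
      rw [← coprime_commg_commg (hR.le.trans hH) h9]
      exact (commutator_mono ((commutator_mono le_rfl hR.le).trans h6) hR.le).trans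
        (h7.trans (cent_symm (hR.le.trans h2)))) _ (mem_sup_right (conj_mem_cj.2 hx))
  exact ⟨k, hk.2, p, hp, e⟩

theorem k1 {g : G} (hg : g ∈ N⟦D⟧) (hc : g * c * g⁻¹ ∈ C⟦P⟧) : g * c * g⁻¹ = c := by
  obtain ⟨d, hd, h1⟩ : ∃ d ∈ D, d ∉ C⟦P⟧ := by
    by_contra! h1
    exact hD.lt.not_ge ((le_inf le_rfl (cent_symm h1)).trans hD.cen)
  obtain ⟨y, hy, e⟩ := exists_nc h1
  obtain ⟨k, hk, p, hp, e1⟩ := h.key hD hP hg hc hy
  have h2 := conj_mem_of_norm hg hd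
  have h3 : g * c * g⁻¹ * (g * d * g⁻¹) = p * (g * d * g⁻¹) * p⁻¹ := by
    rw [← conj_eq_of_comm (mem_cent.1 hk _ (conj_mem_of_norm (h.PN hD hp) h2)).symm, conj_mul,
      ← h.com y hy d (hD.lt.le hd) e]
    calc _ = g * y * g⁻¹ * (g * d * g⁻¹) * (g * y * g⁻¹)⁻¹ := by group
      _ = _ := by rw [← e1]; group
  rcases h.cases hp (hD.lt.le h2) with e2 | e2 <;> rw [e2] at h3
  · exact absurd (by simpa using h3) (ne2 h.oc)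
  · exact mul_right_cancel h3

theorem k2 {g w : G} (hg : g ∈ N⟦D⟧) (hc : g * c * g⁻¹ ∈ C⟦P⟧) (hw : w ∈ P ⊓ C⟦P⟧) : g⁻¹ * w * g ∈ C⟦P⟧ :=
  mem_cj.1 (cj_cent g P ▸ mem_cent.2 fun x hx => by
    obtain ⟨x, hx', rfl⟩ := mem_cj'.1 hx
    obtain ⟨k, hk, p, hp, e⟩ := h.key hD hP hg hc hx'
    rw [← e, mul_assoc, mem_cent.1 hw.2 p hp, ← mul_assoc, ← mem_cent.1 hk w (ZD hD hw), mul_assoc])

theorem nc {g : G} (hg : g ∈ N⟦D⟧) (e : g * c * g⁻¹ ≠ c) : g⁻¹ * c * g ∉ C⟦P⟧ := fun e1 => e (by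
  nth_rw 1 [← h.k1 hD hP (inv_mem hg) (by rwa [inv_inv])]; group)

theorem cCr : c ∉ Cr P D := fun e => by
  obtain ⟨g, hg, e1⟩ := hD.mv
  exact h.nc hD hP hg e1 ((mem_Cr.1 e).2 g hg)

/-- `D` is the union of three conjugates of `Z(P)` -/
theorem cover {g : G} (hg : g ∈ N⟦D⟧) (e : g * c * g⁻¹ ≠ c) : ∃ y ∈ P, y * (g * c * g⁻¹) * y⁻¹ = c * (g * c * g⁻¹) ∧
    ∀ d ∈ D, d ∈ C⟦P⟧ ∨ g⁻¹ * d * g ∈ C⟦P⟧ ∨ (y * g)⁻¹ * d * (y * g) ∈ C⟦P⟧ := by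
  obtain ⟨y, hy⟩ := hD.lt.not_ge |> SetLike.not_le_iff_exists.1
  have h1 : ∀ y ∈ P, y ∉ D → ∀ d ∈ D, d ∉ C⟦P⟧ → y * d * y⁻¹ = c * d := fun y hy h1 d hd h2 =>
    h.com y hy d (hD.lt.le hd) fun e => h1 (h.mem hD hd h2 hy e)
  refine ⟨y, hy.1, h1 y hy.1 hy.2 _ (conj_mem_of_norm hg (h.cD hD)) fun e1 => e (h.k1 hD hP hg e1), fun d hd => ?_⟩
  refine or_iff_not_imp_left.2 fun h2 => or_iff_not_imp_left.2 fun h3 => ?_
  have := h.twoD hD (conj_mem_of_norm' hg (h.cD hD)) (conj_mem_of_norm' hg hd) (h.nc hD hP hg e) h3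
  rwa [show g⁻¹ * c * g * (g⁻¹ * d * g) = g⁻¹ * (c * d) * g by group, ← h1 _ (inv_mem hy.1)
    (fun e => hy.2 (inv_mem_iff.1 e)) d hd h2, show g⁻¹ * (y⁻¹ * d * y⁻¹⁻¹) * g = (y * g)⁻¹ * d * (y * g) by group] at this

theorem k4 {g : G} (hg : g ∈ N⟦D⟧) (e : g * c * g⁻¹ ≠ c) : K4 c (g * c * g⁻¹) :=
  ⟨h.oc, by rw [orderOf_cj, h.oc], e.symm, h.comm hD (conj_mem_of_norm hg (h.cD hD)) (h.cD hD)⟩

theorem orb {g k : G} (hg : g ∈ N⟦D⟧) (e : g * c * g⁻¹ ≠ c) (hk : k ∈ N⟦D⟧) : k * c * k⁻¹ ∈ V4 c (g * c * g⁻¹) := by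
  obtain ⟨y, hy, e1, h1⟩ := h.cover hD hP hg e
  have h2 : ∀ g ∈ N⟦D⟧, g⁻¹ * (k * c * k⁻¹) * g ∈ C⟦P⟧ → k * c * k⁻¹ = g * c * g⁻¹ := fun g hg e2 => by
    nth_rw 2 [← h.k1 hD hP (mul_mem (inv_mem hg) hk) (by simpa [mul_assoc] using e2)]; group
  rw [(h.k4 hD hP hg e).mem_iff]
  rcases h1 _ (conj_mem_of_norm hk (h.cD hD)) with e2 | e2 | e2
  · exact .inr (.inl (h.k1 hD hP hk e2))
  · exact .inr (.inr (.inl (h2 g hg e2)))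
  · exact .inr (.inr (.inr (by rw [h2 _ (mul_mem (h.PN hD hy) hg) e2, ← e1]; group)))

theorem cr {z : G} (hz : z ∈ P ⊓ C⟦P⟧) : z ∈ Cr P D ∨ z * c ∈ Cr P D := by
  obtain ⟨g, hg, e⟩ := hD.mv
  obtain ⟨y, hy, -, h1⟩ := h.cover hD hP hg e
  have h2 : ∀ w ∈ P ⊓ C⟦P⟧, g⁻¹ * w * g ∈ C⟦P⟧ → w ∈ Cr P D := fun w hw e1 => mem_Cr.2 ⟨hw, fun k hk => by
    have h3 : ∀ g ∈ N⟦D⟧, g⁻¹ * w * g ∈ C⟦P⟧ → g⁻¹ * (k * c * k⁻¹) * g ∈ C⟦P⟧ → k⁻¹ * w * k ∈ C⟦P⟧ :=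
      fun g hg e2 e3 => by
        simpa [mul_assoc] using h.k2 hD hP (mul_mem (inv_mem hg) hk) (by simpa [mul_assoc] using e3)
          ⟨hD.lt.le (conj_mem_of_norm' hg (ZD hD hw)), e2⟩
    rcases h1 _ (conj_mem_of_norm hk (h.cD hD)) with e2 | e2 | e2
    · exact h.k2 hD hP hk e2 hw
    · exact h3 g hg e1 e2
    · refine h3 _ (mul_mem (h.PN hD hy) hg) ?_ e2
      rwa [show (y * g)⁻¹ * w * (y * g) = g⁻¹ * (y⁻¹ * (w * y)) * g by group, ← mem_cent.1 hw.2 y hy,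
        inv_mul_cancel_left]⟩
  refine (em _).imp (h2 z hz) fun e1 => h2 _ (mul_mem hz h.cZ) ?_
  simpa [mul_assoc] using h.twoD hD (conj_mem_of_norm' hg (ZD hD hz)) (conj_mem_of_norm' hg (h.cD hD)) e1
    (h.nc hD hP hg e)

theorem normV {g : G} (hg : g ∈ N⟦D⟧) (e : g * c * g⁻¹ ≠ c) : N⟦D⟧ ≤ N⟦V4 c (g * c * g⁻¹)⟧ := fun k hk =>
  (h.k4 hD hP hg e).mem_norm (h.orb hD hP hg e hk) (by simpa [mul_assoc] using h.orb hD hP hg e (mul_mem hk hg))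

omit [Finite G] hP in
theorem act_eq {D' : Subgroup G} (hD' : Act P c D') {x : G} (h1 : x ∈ D) (h2 : x ∈ D') (h3 : x ∉ C⟦P⟧) : D = D' :=
  le_antisymm (fun _ hy => h.mem hD' h2 h3 (hD.lt.le hy) (h.comm hD h1 hy))
    fun _ hy => h.mem hD h1 h3 (hD'.lt.le hy) (h.comm hD' h2 hy)

theorem infV {D' : Subgroup G} (hD' : Act P c D') (hne : D ≠ D') {g g' x : G} (hg : g ∈ N⟦D⟧)
    (e : g * c * g⁻¹ ≠ c) (hg' : g' ∈ N⟦D'⟧) (e' : g' * c * g'⁻¹ ≠ c)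
    (hx : x ∈ V4 c (g * c * g⁻¹) ⊔ V4 c (g' * c * g'⁻¹)) (hxD : x ∈ D) : x ∈ V4 c (g * c * g⁻¹) := by
  have h1 := conj_mem_of_norm hg' (h.cD hD')
  obtain ⟨v, hv, w, hw, rfl⟩ := (mem_sup_of_norm' ((K4.le_of h.cP (hD'.lt.le h1)).trans
    ((h.PN hD).trans (h.normV hD hP hg e)))).1 hx
  have h2 := (mul_mem_cancel_left (K4.le_of (h.cD hD) (conj_mem_of_norm hg (h.cD hD)) hv)).1 hxD
  have h3 : g' * c * g'⁻¹ ∉ D := fun e1 => hne (h.act_eq hD hD' e1 h1 fun e2 => e' (h.k1 hD' hP hg' e2))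
  rcases (h.k4 hD' hP hg' e').mem_iff.1 hw with rfl | rfl | rfl | rfl
  exacts [by rwa [mul_one], mul_mem hv (h.k4 hD hP hg e).a_mem, absurd h2 h3,
    absurd ((mul_mem_cancel_left (h.cD hD)).1 h2) h3]

variable (h0 : C0 P c = ⊥)
include h0

theorem elem {d : G} (hd : d ∈ D) : d * d = 1 := by
  have h1 : ∀ z ∈ P ⊓ C⟦P⟧, z * z = 1 := fun z hz => mem_bot.1 (h0 ▸ mem_C0.2 ⟨mul_mem hz hz, fun D hD => by
    rcases h.cr hD hP hz with e | e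
    · exact mul_mem e e
    · have := mul_mem e e
      rwa [mul_assoc, ← mul_assoc c, mem_cent.1 hz.2 c h.cP, mul_assoc, sq2 h.oc, mul_one] at this⟩)
  obtain ⟨g, hg, e⟩ := hD.mv
  have h2 := conj_mem_of_norm hg (h.cD hD)
  by_cases h3 : d ∈ C⟦P⟧
  · exact h1 d ⟨hD.lt.le hd, h3⟩
  · have := h1 _ ⟨hD.lt.le (mul_mem hd h2), h.twoD hD hd h2 h3 fun e1 => e (h.k1 hD hP hg e1)⟩
    rwa [mul_assoc, ← mul_assoc _ d, h.comm hD hd h2, mul_assoc, (h.k4 hD hP hg e).bb, mul_one] at this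

end Z4

variable [Finite G] {P : Sylow 2 G} {c : G} (h : Z4 P c)
include h

theorem Z4.norm_C0 : N⟦(P : Subgroup G)⟧ ≤ N⟦C0 P c⟧ := fun n hn => mem_norm_of_forall fun w hw => by
  have h1 := conj_mem_of_norm (mem_norm_inf hn (mem_norm_cent hn)) (mem_C0.1 hw).1
  refine mem_C0.2 ⟨h1, fun D hD => mem_Cr.2 ⟨h1, fun g hg => ?_⟩⟩
  have := (mem_Cr.1 ((mem_C0.1 hw).2 _ (h.act_cj (inv_mem hn) hD))).2 _ (cj_norm n⁻¹ D ▸ conj_mem_cj.2 hg)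
  simpa [mul_assoc] using conj_mem_of_norm (mem_norm_cent hn) this

theorem Z4.sc_C0 : IsStronglyClosed (C0 P c) (P : Subgroup G) := by
  refine sc_of_rad P (inf_le_left.trans inf_le_left) h.norm_C0 fun D hD hr g hg x hx hxD => ?_
  have h1 := (mem_Cr.1 ((mem_C0.1 hx).2 D (h.act_of_rad hD hr))).2 _ (inv_mem hg)
  rw [inv_inv] at h1
  obtain ⟨n, -, hn, e⟩ := (H11.isSylIn_top P).exists_normalizer_conj (mem_top g) (mem_cent.1 (mem_C0.1 hx).1.2)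
    (mem_cent.1 h1)
  exact e ▸ conj_mem_of_norm (h.norm_C0 hn) hx

theorem Z4.iso (h1 : ∀ D, ¬ Act P c D) (g : G) (hg : g * c * g⁻¹ ∈ (P : Subgroup G)) : g * c * g⁻¹ = c :=
  (mem_zpowers2 h.oc ((sc_of_rad P (zpowers_le.2 h.cP) (fun _ hn => norm_zpowers_of_comm
    (comm_of_conj_eq (h.fix hn))) fun D hD hr => absurd (h.act_of_rad hD hr) (h1 D)).2 c (mem_zpowers c) g
    hg)).resolve_left (ne2 (by rw [orderOf_cj, h.oc]))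

theorem Z4.fin (h0 : C0 P c = ⊥) {D : Subgroup G} (hD : Act P c D) :
    (∀ D', Act P c D' → D' = D) ∧ (P : Subgroup G) ⊓ C⟦(P : Subgroup G)⟧ ≤ zpowers c ∨ ∃ D' g g', Act P c D' ∧ D ≠ D' ∧
      g ∈ N⟦D⟧ ∧ g * c * g⁻¹ ≠ c ∧ g' ∈ N⟦D'⟧ ∧ g' * c * g'⁻¹ ≠ c ∧
      (P : Subgroup G) ⊓ ⁅(⊤ : Subgroup G), ⊤⁆ ≤ V4 c (g * c * g⁻¹) ⊔ V4 c (g' * c * g'⁻¹) := by
  have hP := sylowOf_top P
  refine or_iff_not_imp_left.2 fun h1 => ?_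
  obtain ⟨D', hD', hne⟩ : ∃ D', Act P c D' ∧ D ≠ D' := by
    by_contra! h2
    refine h1 ⟨fun D' hD' => (h2 D' hD').symm, fun z hz => ?_⟩
    have h3 : ∀ w ∈ Cr P D, w = 1 := fun w hw =>
      mem_bot.1 (h0 ▸ mem_C0.2 ⟨(mem_Cr.1 hw).1, fun D' hD' => h2 D' hD' ▸ hw⟩)
    rcases h.cr hD hP hz with e | e
    · rw [h3 z e]; exact one_mem _
    · rw [eq_inv_of_mul_eq_one_left (h3 _ e)]; exact inv_mem (mem_zpowers c)
  obtain ⟨g, hg, e⟩ := hD.mv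
  obtain ⟨g', hg', e'⟩ := hD'.mv
  refine ⟨D', g, g', hD', hne, hg, e, hg', e', ?_⟩
  set X := V4 c (g * c * g⁻¹) ⊔ V4 c (g' * c * g'⁻¹) with hX
  have a1 := conj_mem_of_norm hg (h.cD hD)
  have a2 := conj_mem_of_norm hg' (h.cD hD')
  have b1 : g * c * g⁻¹ ∉ C⟦(P : Subgroup G)⟧ := fun e1 => e (h.k1 hD hP hg e1)
  have b2 : g' * c * g'⁻¹ ∉ C⟦(P : Subgroup G)⟧ := fun e1 => e' (h.k1 hD' hP hg' e1)
  have k1 := h.k4 hD hP hg e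
  have k2 := h.k4 hD' hP hg' e'
  have h12 : g' * c * g'⁻¹ * (g * c * g⁻¹) ≠ g * c * g⁻¹ * (g' * c * g'⁻¹) := fun e1 =>
    hne (h.act_eq hD hD' (h.mem hD a1 b1 (hD'.lt.le a2) e1) a2 b2)
  have h2 : ∀ E, Act P c E → E = D ∨ E = D' := fun E hE => by
    obtain ⟨k, hk, e1⟩ := hE.mv
    have a3 := conj_mem_of_norm hk (h.cD hE)
    have b3 : k * c * k⁻¹ ∉ C⟦(P : Subgroup G)⟧ := fun e2 => e1 (h.k1 hE hP hk e2)
    by_contra! h3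
    refine h12 (cm2 k2.ob k1.ob (h.elem hE hP h0 (h.mem hE a3 b3 (mul_mem (hD'.lt.le a2)
      (hD.lt.le a1)) (h.two (hE.lt.le a3) (hD'.lt.le a2) (hD.lt.le a1) (fun e2 => h3.2 ?_) fun e2 => h3.1 ?_))))
    exacts [h.act_eq hE hD' (h.mem hE a3 b3 (hD'.lt.le a2) e2) a2 b2,
      h.act_eq hE hD (h.mem hE a3 b3 (hD.lt.le a1) e2) a1 b1]
  have hXP : X ≤ P := sup_le (K4.le_of h.cP (hD.lt.le a1)) (K4.le_of h.cP (hD'.lt.le a2))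
  have cX : c ∈ X := mem_sup_left k1.a_mem
  have hsc : IsStronglyClosed X (P : Subgroup G) := by
    refine sc_of_rad P hXP (fun n hn => mem_norm_of_cj_le ?_) fun E hE hr k hk x hx hxE => ?_
    · have h3 : ∀ E, Act P c E → ∀ k ∈ N⟦E⟧, cj n (V4 c (k * c * k⁻¹)) ≤ X := fun E hE k hk => by
        rw [cjV, h.fix hn]
        refine K4.le_of cX ?_
        have h4 : n * k * n⁻¹ ∈ N⟦cj n E⟧ := cj_norm n E ▸ conj_mem_cj.2 hk
        rw [show n * (k * c * k⁻¹) * n⁻¹ = n * k * n⁻¹ * (n * c * n⁻¹) * (n * k * n⁻¹)⁻¹ by group, h.fix hn]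
        rcases h2 _ (h.act_cj hn hE) with e1 | e1 <;> rw [e1] at h4
        exacts [mem_sup_left (h.orb hD hP hg e h4), mem_sup_right (h.orb hD' hP hg' e' h4)]
      rw [hX, cj_sup]
      exact sup_le (h3 D hD g hg) (h3 D' hD' g' hg')
    · rcases h2 E (h.act_of_rad hE hr) with rfl | rfl
      · exact mem_sup_left (conj_mem_of_norm (h.normV hD hP hg e hk) (h.infV hD hP hD' hne hg e hg' e' hx hxE))
      · exact mem_sup_right (conj_mem_of_norm (h.normV hD' hP hg' e' hk)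
          (h.infV hD' hP hD hne.symm hg' e' hg e (sup_comm (V4 c _) _ ▸ hx) hxE))
  have h3 : ∀ w ∈ Cr P D, w ∈ Cr P D' → w = 1 := fun w h3 h4 =>
    mem_bot.1 (h0 ▸ mem_C0.2 ⟨(mem_Cr.1 h3).1, fun E hE => by rcases h2 E hE with rfl | rfl <;> assumption⟩)
  have h4 : ∀ a ∈ (P : Subgroup G), a ∉ X → ∃ w ∈ Cr P D, w * c ∈ Cr P D' ∧ w * a ∈ X := fun a ha haX => by
    obtain ⟨z, hz, x, hx, e1⟩ := (mem_sup_of_norm (norm_of_cent (inf_le_right.trans (cent_anti hXP)))).1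
      (h.gen le_sup_left (hD.lt.le a1) (hD'.lt.le a2) h12 (mem_sup_right (mem_sup_left k1.b_mem))
        (mem_sup_right (mem_sup_right k2.b_mem)) (inv_mem ha))
    have h5 : z * a ∈ X := by
      rw [← mem_cent.1 hz.2 a ha, ← inv_inv a, ← e1, mul_inv_rev, inv_mul_cancel_right]; exact inv_mem hx
    have h6 : ∀ w ∈ Cr P D, w * a ∈ X → ∃ w ∈ Cr P D, w * c ∈ Cr P D' ∧ w * a ∈ X := fun w hw h6 =>
      ⟨w, hw, (h.cr hD' hP (mem_Cr.1 hw).1).resolve_left fun e2 => haX (by rwa [h3 w hw e2, one_mul] at h6), h6⟩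
    rcases h.cr hD hP hz with e2 | e2
    · exact h6 z e2 h5
    · exact h6 _ e2 (by rw [← mem_cent.1 hz.2 c h.cP, mul_assoc]; exact mul_mem cX h5)
  refine focal_subgroup_le hP fun x hx u _ hu => ?_
  by_cases h5 : x ∈ X
  · exact mul_mem (inv_mem h5) (hsc.2 x h5 u hu)
  · obtain ⟨w, w1, w2, w3⟩ := h4 _ (inv_mem hx) fun e1 => h5 (inv_mem_iff.1 e1)
    obtain ⟨z, z1, z2, z3⟩ := h4 _ hu fun e1 => h5 (by simpa [mul_assoc] using hsc.2 _ e1 u⁻¹ (by simpa [mul_assoc]))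
    have h6 := h3 _ (mul_mem w1 z1) (by
      have := mul_mem w2 z2
      rwa [mul_assoc, ← mul_assoc c, mem_cent.1 (mem_Cr.1 z1).1.2 c h.cP, mul_assoc, sq2 h.oc, mul_one] at this)
    have := mul_mem w3 z3
    rwa [mul_assoc, ← mul_assoc x⁻¹, mem_cent.1 (mem_Cr.1 z1).1.2 _ (inv_mem hx), mul_assoc, ← mul_assoc w, h6,
      one_mul] at this

end Cfsg.Agent.Zi
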