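import Cfsg.Agent.GP.GS
import Cfsg.Agent.H11.U3
import Cfsg.Agent.H12.Transport

/-! Groups with Sylow `2`-subgroups of type `U₃(2ⁿ)`. -/

set_option autoImplicit false
set_option linter.style.haveILetI false

namespace Cfsg.Agent.U3S

open Subgroup Cfsg.Agent.H10 Cfsg.Agent.H11 Cfsg.Agent.WA Cfsg.Agent.GO Cfsg.Agent.GP
open scoped commutatorElement

universe u
variable {G : Type u} [Group G] [Finite G] {S E L T R : Subgroup G}

structure UT (S E : Subgroup G) : Prop where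
  syl : IsSylIn 2 S ⊤
  mem : ∀ x, x ∈ E ↔ x ∈ S ∧ x * x = 1
  cen : S ≤ centralizer (E : Set G)
  com : ⁅S, S⁆ = E
  sq : ∀ x ∈ S, x * x ∈ E
  zc : ∀ x ∈ S, (∀ s ∈ S, s * x = x * s) → x ∈ E
  line : ∀ x ∈ S, x ∉ E → ∀ y ∈ S, ∀ z ∈ S, x * y = y * x → x * z = z * x → y * z = z * y
  two : ∃ x ∈ S, ∃ y ∈ S, x ∉ E ∧ y ∉ E ∧ x * y ∉ E ∧ x * y = y * x

theorem ut_of {F : Type*} [Field F] {σ : F →+* F} (P : Sylow 2 G) {X Y : ↥(P : Subgroup G) → F} (h : UC σ X Y)
    (hq : 2 < H12.q0 σ) : UT (P : Subgroup G) ((center (P : Subgroup G)).map (P : Subgroup G).subtype) := by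
  have m : ∀ x (hx : x ∈ (P : Subgroup G)), x ∈ (center (P : Subgroup G)).map (P : Subgroup G).subtype ↔ X ⟨x, hx⟩ = 0 :=
    fun x hx => (mem_map_iff_mem (f := (P : Subgroup G).subtype) (subtype_injective _) (x := ⟨x, hx⟩)).trans h.mem_center
  have c : ∀ x y (hx : x ∈ (P : Subgroup G)) (hy : y ∈ (P : Subgroup G)), x * y = y * x ↔
      σ (X ⟨x, hx⟩) * X ⟨y, hy⟩ = σ (X ⟨y, hy⟩) * X ⟨x, hx⟩ := fun x y hx hy => by
    rw [← h.comm_iff, Subtype.ext_iff]; rfl
  refine ⟨isSylIn_top P, fun x => ⟨fun hx => ⟨map_subtype_le _ hx, congrArg Subtype.val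
      (h.sq_eq_one_iff.2 ((m x (map_subtype_le _ hx)).1 hx))⟩, fun hx => (m x hx.1).2 (h.sq_eq_one_iff.1 (Subtype.ext hx.2))⟩,
    fun x hx y hy => (c _ _ (map_subtype_le _ hy) hx).2 (by simp [(m y _).1 hy]), ?_,
    fun x hx => (m _ (mul_mem hx hx)).2 (h.X_sq ⟨x, hx⟩), fun x hx e => (m x hx).2 (h.mem_center.1
      (mem_center_iff.2 fun s => Subtype.ext (e s s.2))), fun x hx x0 y hy z hz e1 e2 => ?_, ?_⟩
  · rw [← h.commutator_eq, _root_.commutator_def, map_commutator, ← MonoidHom.range_eq_map, range_subtype]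
  · rw [c _ _ hx hy] at e1
    rw [c _ _ hx hz] at e2
    rw [c _ _ hy hz]
    exact mul_right_cancel₀ (mt (m x hx).2 x0) (by linear_combination X ⟨y, hy⟩ * e2 - X ⟨z, hz⟩ * e1)
  · obtain ⟨l, l1, l2, l3⟩ : ∃ l, σ l = l ∧ l ≠ 0 ∧ l ≠ 1 := by
      by_contra! e
      have := Nat.card_le_card_of_injective (fun a : {a : F // σ a = a} => (a.1 = 0 : Prop)) fun a b e1 => Subtype.ext (by
        have e2 : a.1 = 0 ↔ b.1 = 0 := iff_of_eq e1
        by_cases a0 : a.1 = 0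
        · rw [a0, e2.1 a0]
        · rw [e _ a.2 a0, e _ b.2 (mt e2.2 a0)])
      rw [Nat.card_eq_fintype_card (α := Prop), Fintype.card_prop] at this
      exact this.not_gt hq
    obtain ⟨x, hx⟩ := h.exists_X 1
    obtain ⟨y, hy⟩ := h.exists_X l
    refine ⟨x, x.2, y, y.2, by simp [m _ x.2, hx], by simp [m _ y.2, hy, l2], fun e => ?_, (c _ _ x.2 y.2).2 (by simp [hx, hy, l1])⟩
    have := (m _ (mul_mem x.2 y.2)).1 e
    rw [show (⟨x * y, mul_mem x.2 y.2⟩ : (P : Subgroup G)) = x * y from rfl, h.addX, hx, hy] at this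
    exact l3 (h.cj.eq_of_add this).symm

namespace UT
variable (h : UT S E)
include h

theorem le : E ≤ S := fun x hx => ((h.mem x).1 hx).1

theorem es : ES E ⊤ := ⟨SC.of_syl h.syl h.le fun a ha g _ e => (h.mem _).2 ⟨e, by
  rw [conj_mul, ((h.mem a).1 ha).2, mul_one, mul_inv_cancel]⟩, fun a ha => ((h.mem a).1 ha).2⟩

theorem nc : ¬ S ≤ centralizer (S : Set G) := fun e => by
  obtain ⟨x, hx, -, -, h1, -⟩ := h.two
  exact h1 (h.zc x hx (e hx))

theorem split (hT : T ≤ S) (hR : R ≤ S) (hs : ∀ s ∈ S, ∃ t ∈ T, ∃ r ∈ R, t * r = s)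
    (hc : T ≤ centralizer (R : Set G)) : T ≤ E ∨ R ≤ E := by
  by_contra! e
  obtain ⟨t, t1, t2⟩ := SetLike.not_le_iff_exists.1 e.1
  obtain ⟨r, r1, r2⟩ := SetLike.not_le_iff_exists.1 e.2
  refine r2 (h.zc r (hR r1) fun s a => ?_)
  obtain ⟨x, x1, y, y1, rfl⟩ := hs s a
  rw [mul_assoc, h.line t (hT t1) t2 y (hR y1) r (hR r1) (hc t1 y y1).symm (hc t1 r r1).symm, ← mul_assoc,
    ← hc x1 r r1, mul_assoc]

/-- `S = T E` forces `S' = T'`. -/
theorem le_of (hT : T ≤ S) (hs : ∀ s ∈ S, ∃ t ∈ T, ∃ r ∈ E, t * r = s) : E ≤ T := by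
  rw [← h.com]
  refine commutator_le.2 fun a ha b hb => ?_
  obtain ⟨x, x1, y, y1, rfl⟩ := hs a ha
  obtain ⟨z, z1, w, w1, rfl⟩ := hs b hb
  have e1 := h.cen (mul_mem (hT z1) (h.le w1)) y y1
  have e2 := h.cen (hT x1) w w1
  have : ⁅x * y, z * w⁆ = ⁅x, z⁆ := by
    simp only [commutatorElement_def]
    calc _ = x * (y * (z * w)) * y⁻¹ * x⁻¹ * w⁻¹ * z⁻¹ := by group
      _ = x * z * (w * x⁻¹ * w⁻¹) * z⁻¹ := by rw [e1]; group
      _ = _ := by rw [show w * x⁻¹ * w⁻¹ = x⁻¹ from by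
        rw [mul_inv_eq_iff_eq_mul, mul_inv_eq_iff_eq_mul, mul_assoc, e2, inv_mul_cancel_left]]
  rw [this, commutatorElement_def]
  exact mul_mem (mul_mem (mul_mem x1 z1) (inv_mem x1)) (inv_mem z1)

variable (hO : OqOf 2 (⊤ : Subgroup G) = ⊥)
include hO

theorem comp (hL : AC E L ⊤) : S ≤ L := by
  have h1 : S ≤ normalizer (L : Set G) := ac_norm hL h.cen
  have hT := (h.syl.of_le h1 le_top).inf_of_normalized le_normalizer le_rfl
  have h2 : S ≤ normalizer ((S ⊓ L : Subgroup G) : Set G) := (le_inf le_normalizer h1).trans inf_normalizer_le_normalizer_inf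
  have os := hL.os hT (h.le.trans h2)
  have h3 : S ≤ (S ⊓ L) ⊔ cn L := (ti_le_iff h1 (inf_le_left.trans h1)).1 fun y hy => by
    obtain ⟨s, s1, s2, rfl⟩ := mem_im_iff.1 hy
    obtain ⟨k, hk⟩ := h.syl.pg ⟨s, s2⟩
    obtain ⟨y, y1, y2⟩ := hL.nice.inn _ _ os (pr L ⟨s, s1⟩) (ti_top.ge (mem_top _)) ⟨k, by
      rw [← map_pow, show (⟨s, s1⟩ : normalizer (L : Set G)) ^ 2 ^ k = 1 from Subtype.ext (congrArg Subtype.val hk :), map_one]⟩
      (im_le_centralizer (h.le.trans h1) h.cen hy) (by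
        rw [← im_zpowers, ← im_commutator (zpowers_le.2 s1) (inf_le_left.trans h1)]
        exact im_mono ((commutator_mono (zpowers_le.2 s2) inf_le_left).trans h.com.le))
    rw [ti_cent hL.pqs, mem_bot, inv_mul_eq_one] at y2
    exact y2 ▸ y1
  have hs : ∀ s ∈ S, ∃ t ∈ S ⊓ L, ∃ r ∈ S ⊓ cn L, t * r = s := fun s a => by
    obtain ⟨t, t1, r, r1, rfl⟩ := (mem_sup_iff_of_left_le_normalizer ((inf_le_left.trans h1).trans norm_cn)).1 (h3 a)
    exact ⟨t, t1, r, ⟨(Subgroup.mul_mem_cancel_left _ t1.1).1 a, r1⟩, rfl⟩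
  have hc : S ⊓ L ≤ centralizer ((S ⊓ cn L : Subgroup G) : Set G) := fun t a r b => (cn_cent hO hL.pc b.2 t a.2).symm
  rcases h.split inf_le_left inf_le_left hs hc with e | e
  · refine absurd ((h.le_of inf_le_left fun s a => ?_).trans inf_le_right) hL.ne
    obtain ⟨t, t1, r, r1, rfl⟩ := hs s a
    exact ⟨r, r1, t, e t1, hc t1 r r1⟩
  · have h4 := h.le_of inf_le_left fun s a => by
      obtain ⟨t, t1, r, r1, rfl⟩ := hs s a
      exact ⟨t, t1, r, e r1, rfl⟩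
    intro s a
    obtain ⟨t, t1, r, r1, rfl⟩ := hs s a
    exact mul_mem t1.2 (h4 (e r1)).2

theorem comp_normal (hL : AC E L ⊤) : L.Normal := by
  obtain ⟨v, v1, v2⟩ := SetLike.not_le_iff_exists.1 hL.ne
  exact normalizer_eq_top_iff.1 (eq_top_iff.2 fun g _ => cj_eq_iff.1
    (eq_of_mem (hL.conj (mem_top g)).pc hL.pc (h.comp hO (hL.conj (mem_top g)) (h.le v1)) v2))

theorem comp_iso {q : ℕ} (hq : 8 ≤ q) (h1 : Nat.card S = q ^ 3) (h2 : Nat.card E = q) (hL : AC E L ⊤) :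
    ∃ (F : Type) (_ : Field F) (_ : Fintype F), Fintype.card F = q ^ 2 ∧ Nonempty (L ≃* PSU 3 F q) := by
  have hS := h.comp hO hL
  have hT := h.syl.of_le hS le_top
  have hn := hS.trans le_normalizer
  have os := hL.os hT (h.le.trans le_normalizer)
  have hZ : L ⊓ cn L = ⊥ := by
    have h3 : IsPGroup 2 ↥(L ⊓ cn L) := OpOf_isPGroup.to_le (Z_le hO hL.pc)
    rcases ac_cov hL with e | e
    · exact eq_bot_of_isPGroup_of_coprime h3 (odd_iff_cop.1 e)
    rcases hL.cov with e1 | e1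
    · exact eq_bot_of_isPGroup_of_coprime h3 (e1 ▸ odd_iff_cop.1 odd_O)
    have h4 := card_im_mul (f := pr L) hn
    rw [GP.Sz8.card_syl e os.syl, h1, kr_pr] at h4
    have h5 := e1.2.2 (S ⊓ cn L) (inf_le_inf_right _ hS) h.syl.pg.to_inf_left
    have := Nat.pow_le_pow_left hq 3
    omega
  have hc : ∀ U ≤ L, Nat.card (ti L U) = Nat.card U := fun U hU => card_im_of_disjoint (hU.trans le_normalizer)
    (eq_bot_iff.2 (by rw [kr_pr, ← hZ]; exact inf_le_inf_right _ hU))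
  have f : L ≃* ti L L := MulEquiv.ofBijective (((pr L).comp (inclusion le_normalizer)).codRestrict _
      fun x => mem_im (le_normalizer x.2) x.2) ⟨(injective_iff_map_eq_one _).2 fun x hx =>
        Subtype.ext (hZ.le ⟨x.2, (pr_eq_one _).1 (congrArg Subtype.val hx)⟩),
      fun ⟨y, hy⟩ => by
        obtain ⟨x, -, hx, rfl⟩ := mem_im_iff.1 hy
        exact ⟨⟨x, hx⟩, rfl⟩⟩
  have ab : ¬ Ab2 (ti L L) := fun e => h.nc (commutator_eq_bot_iff_le_centralizer.1 (eq_bot_iff.2 (hZ ▸ le_inf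
    ((commutator_mono hS hS).trans (commutator_le_self L)) (kr_pr (K := L) ▸ (commutator_im_eq_bot_iff hn hn).1
      (commutator_eq_bot_iff_le_centralizer.2 fun a ha b hb => e _ os.syl.le os.syl.pg b hb a ha)))))
  obtain ⟨P, hP⟩ := os.syl.exists_sylow
  have h3 : Nat.card (P : Subgroup (ti L L)) = q ^ 3 := by rw [hP, card_subgroupOf os.syl.le, hc S hS, h1]
  rcases hL.gt with ⟨e, -⟩ | ⟨F, _, _, ⟨n, -, a⟩, ⟨e⟩⟩ | ⟨F, _, _, m, a, b, ⟨e⟩⟩ | ⟨F, _, _, n, a, b, ⟨e⟩⟩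
  · exact absurd (ab2_of_top e) ab
  · exact absurd (ab2_of_bt (BT.of_psl a e)) ab
  · haveI := H15.Sz.charP_two b
    obtain ⟨M, -, c⟩ := ((H15.Sz.lieModel a b).ofEquiv e).exists_model_sylow P
    obtain ⟨V, B, -, d⟩ := bf_Sz a b e os.syl
    rw [← c, M.card_Q, ← d, ← os.eq B.toOS, hc E (h.le.trans hS), h2] at h3
    have := Nat.pow_right_injective (show 2 ≤ q by omega) h3
    omega
  · have c : Even (2 ^ n) := Nat.even_pow.2 ⟨even_two, by omega⟩
    obtain ⟨X, Y, d⟩ := exists_uc_PSU b c (P.mapSurjective (f := e.toMonoidHom) e.surjective)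
    have := ((card_map_of_injective e.injective).symm.trans d.card_eq).trans ((uc_UM d.cj).card_eq.symm.trans (card_UM b _))
    rw [h3] at this
    obtain rfl := Nat.pow_left_injective (by decide) this
    exact ⟨F, _, _, b, ⟨f.trans e⟩⟩

theorem syl_normal (hn : ∀ L, ¬ AC E L ⊤) : S.Normal := by
  haveI : E.Normal := normalizer_eq_top_iff.1 (eq_top_iff.2 (h.es.gen (gold_all.lo ⊤) (hO.le.trans bot_le)
    (fun K hK => absurd hK (hn K)) inf_le_right))
  have hπ := QuotientGroup.mk'_surjective E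
  have hk := QuotientGroup.ker_mk' E
  set π := QuotientGroup.mk' E
  have m : ∀ x, π x = 1 ↔ x ∈ E := fun x => QuotientGroup.eq_one_iff x
  have cS : (S.map π).comap π = S := comap_map_eq_self (hk.le.trans h.le)
  have cC : ((centralizer (E : Set G)).map π).comap π = centralizer (E : Set G) :=
    comap_map_eq_self (hk.le.trans (h.le.trans h.cen))
  obtain ⟨P, hP⟩ := h.syl.exists_sylow_top
  have hA : IsSylIn 2 (S.map π) ((centralizer (E : Set G)).map π) :=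
    (show IsSylIn 2 (S.map π) ⊤ from hP ▸ isSylIn_top (P.mapSurjective hπ)).of_le (map_mono h.cen) le_top
  have es : ES (S.map π) ((centralizer (E : Set G)).map π) := ⟨SC.of_syl hA le_rfl fun _ _ _ _ e => e, by
    rintro _ ⟨a, ha, rfl⟩
    rw [← map_mul, m]; exact h.sq a ha⟩
  have h1 : (centralizer (E : Set G)).map π ≤ normalizer (S.map π : Set (G ⧸ E)) := by
    refine es.gen (gold_all.lo _) (fun y hy => ?_) (fun K hK => False.elim ?_) inf_le_right
    · obtain ⟨c, hc, rfl⟩ := OqOf_le hy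
      haveI : ((centralizer (E : Set G)).map π).Normal := Normal.map inferInstance π hπ
      haveI : (OqOf 2 ((centralizer (E : Set G)).map π)).Normal :=
        normalizer_eq_top_iff.1 (eq_top_iff.2 (le_normalizer_OqOf le_normalizer_of_normal))
      rw [(m c).2 (cy hO ⟨le_OqOf le_top le_normalizer_of_normal (odd_iff_cop.1 odd_O) hy, hc⟩).1]
      exact one_mem _
    obtain ⟨C, hC, t, -⟩ := hK.tri
    set Z := S.map π ⊓ cn K
    have c1 : C.comap π ≤ centralizer (E : Set G) := (comap_mono (hC.trans hK.pc.le)).trans cC.le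
    have r1 : Z.comap π ≤ S := (comap_mono inf_le_left).trans cS.le
    have eR : E ≤ Z.comap π := hk.ge.trans (ker_le_comap _ _)
    have c2 : ⁅⁅C.comap π, S⁆, Z.comap π⁆ = ⊥ := commutator_commutator_eq_bot_of_rotate
      (commutator_eq_bot_iff_le_centralizer.2 (((commutator_mono le_rfl r1).trans h.com.le).trans (le_centralizer_iff.1 c1)))
      (commutator_eq_bot_iff_le_centralizer.2 (le_trans (commutator_le.2 fun a ha b hb => (m _).1 (by
        rw [map_commutatorElement, commutatorElement_eq_one_iff_mul_comm]; exact t.cZ hb _ ha)) (le_centralizer_iff.1 h.cen)))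
    have tr : ∀ x ∈ S, π x ∉ Z → ∀ y ∈ S, π y ∉ Z → ∃ c ∈ C.comap π, c * x * c⁻¹ ∈ S ∧ c * x * c⁻¹ * y ∈ Z.comap π :=
      fun x hx x0 y hy y0 => by
        obtain ⟨c, hc, e⟩ := t.tr _ (mem_map_of_mem π hx) x0 _ (mem_map_of_mem π hy) y0
        obtain ⟨c, rfl⟩ := hπ c
        exact ⟨c, hc, by simpa using mul_mem (r1 (show c * x * c⁻¹ * y ∈ Z.comap π by simpa using e)) (inv_mem hy),
          by simpa using e⟩
    have hs : ∀ s ∈ S, ∃ t ∈ S ⊓ centralizer (Z.comap π : Set G), ∃ r ∈ Z.comap π, t * r = s := fun s a => by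
      by_cases s0 : π s ∈ Z
      · exact ⟨1, one_mem _, s, s0, one_mul _⟩
      obtain ⟨x, hx, x0, x1⟩ : ∃ x ∈ S, π x ∉ Z ∧ π (x⁻¹ * s) ∉ Z := by
        obtain ⟨_, ⟨v, hv, rfl⟩, v0, _, ⟨w, hw, rfl⟩, w0, e⟩ := t.exists_two
        by_contra! e1
        refine e ?_
        have e3 := mul_mem (e1 v⁻¹ (S.inv_mem hv) (by simpa using v0)) (inv_mem (e1 w hw w0))
        simpa using e3
      obtain ⟨c, hc, e1, e2⟩ := tr x hx x0 _ (mul_mem (inv_mem hx) a) x1
      have e3 : ⁅c, x⁆ ∈ S ⊓ centralizer (Z.comap π : Set G) := ⟨S.mul_mem e1 (S.inv_mem hx),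
        commutator_eq_bot_iff_le_centralizer.1 c2 (commutator_mem_commutator hc hx)⟩
      exact ⟨_, inv_mem e3, _, e2, by rw [commutatorElement_def]; group⟩
    rcases h.split inf_le_left r1 hs inf_le_right with e | e
    · refine t.not_le ?_
      rintro _ ⟨s, a, rfl⟩
      obtain ⟨x, x1, y, y1, rfl⟩ := hs s a
      exact mul_mem (eR (e x1)) y1
    · obtain ⟨x, hx, y, hy, x0, y0, e1, e2⟩ := h.two
      obtain ⟨c, hc, e3, e4⟩ := tr x hx (fun a => x0 (e a)) y hy fun a => y0 (e a)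
      have e5 := ((h.mem _).1 (e e4)).2
      have e6 := h.cen hy _ (e e4)
      have e7 := c1 hc _ (h.sq x hx)
      refine e1 ((h.mem _).2 ⟨mul_mem hx hy, ?_⟩)
      calc x * y * (x * y) = x * x * (y * y) := by rw [mul_assoc, ← mul_assoc y, ← e2]; group
        _ = c * (x * x) * c⁻¹ * (y * y) := by rw [← e7]; group
        _ = c * x * c⁻¹ * (c * x * c⁻¹ * y * y) := by group
        _ = 1 := by rw [e6, ← e5]; group
  have h2 : centralizer (E : Set G) ≤ normalizer (S : Set G) := by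
    rw [← cS, ← comap_normalizer_eq_of_surjective _ hπ]; exact map_le_iff_le_comap.1 h1
  have h3 : OpOf 2 (centralizer (E : Set G)) = S := (h.syl.of_le h.cen le_top).eq OpOf_isPGroup
    (le_OpOf h.cen h2 h.syl.pg) OpOf_le
  exact h3 ▸ normalizer_eq_top_iff.1 (eq_top_iff.2 (le_normalizer_OpOf le_normalizer_of_normal))

theorem main {q : ℕ} (hq : 8 ≤ q) (h1 : Nat.card S = q ^ 3) (h2 : Nat.card E = q) : S.Normal ∨ ∃ L : Subgroup G, L.Normal ∧
    Odd L.index ∧ ∃ (F : Type) (_ : Field F) (_ : Fintype F), Fintype.card F = q ^ 2 ∧ Nonempty (L ≃* PSU 3 F q) := by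
  by_cases e : ∃ L, AC E L ⊤
  · obtain ⟨L, hL⟩ := e
    refine .inr ⟨L, h.comp_normal hO hL, Nat.not_even_iff_odd.1 fun a => h.syl.not_dvd_relIndex ?_, h.comp_iso hO hq h1 h2 hL⟩
    rw [relIndex_top_right]
    exact a.two_dvd.trans (index_dvd_of_le (h.comp hO hL))
  · exact .inl (h.syl_normal hO (not_exists.1 e))

end UT

end Cfsg.Agent.U3S
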