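import Cfsg.Agent.H11.Zi1
import Cfsg.Agent.H11.C2b
import Cfsg.Agent.H11.AbS
import Cfsg.Agent.GW.Cor2
import Cfsg.Agent.GW.DG
import Cfsg.Agent.H3.Misc1
import Cfsg.Agent.S1169
import Cfsg.Agent.S2116

/-! Quasisimple groups with a Sylow `2`-subgroup whose centre has index four. -/

set_option autoImplicit false

namespace Cfsg.Agent.Zi

open Subgroup Cfsg.Agent.H20 Cfsg.Agent.H21 Cfsg.Agent.BG Cfsg.Agent.JL

universe u
variable {G : Type u} [Group G]

theorem Z4.dih {P : Subgroup G} {c s : G} (h : Z4 P c) (hZ : P ⊓ C⟦P⟧ ≤ zpowers c) (hs : s ∈ P) (h1 : s * s = 1)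
    (h2 : s ∉ C⟦P⟧) : ∃ a ∈ P, a * a = c ∧ P ≤ closure {a, s} ∧ s * a * s⁻¹ = a⁻¹ := by
  obtain ⟨y, hy, e⟩ := exists_nc h2
  have key : ∀ a ∈ P, a * s ≠ s * a → a * a = c → ∃ a ∈ P, a * a = c ∧ P ≤ closure {a, s} ∧ s * a * s⁻¹ = a⁻¹ :=
    fun a ha e1 e2 => by
      have h3 : a ∈ closure {a, s} := subset_closure (by simp)
      refine ⟨a, ha, e2, h.gen (hZ.trans (zpowers_le.2 (e2 ▸ mul_mem h3 h3))) hs ha e1 (subset_closure (by simp)) h3, ?_⟩
      rw [h.com s hs a ha e1.symm, eq_inv_iff_mul_eq_one, mul_assoc, e2, sq2 h.oc]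
  have h3 : y ∉ C⟦P⟧ := fun e1 => e (mem_cent.1 e1 s hs).symm
  rcases mem_zpowers2 h.oc (hZ ⟨mul_mem hy hy, h.idz y hy y hy h3 h3 rfl⟩) with e1 | e1
  · refine key (y * s) (mul_mem hy hs) (fun e2 => e (by rwa [← mul_assoc, mul_left_inj] at e2)) ?_
    calc _ = y * (s * y * s⁻¹) * (s * s) := by group
      _ = c := by rw [h.com s hs y hy e.symm, h1, mul_one, ← mul_assoc, mem_cent.1 h.cZ.2 y hy, mul_assoc, e1, mul_one]
  · exact key y hy e e1

theorem card8 {P : Subgroup G} {c : G} (h : Z4 P c) (hZ : P ⊓ C⟦P⟧ ≤ zpowers c) (h4 : (P ⊓ C⟦P⟧).relIndex P = 4) :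
    Nat.card P = 8 := by
  rw [← H11.card_mul_relIndex (inf_le_left (b := C⟦P⟧)), h4, le_antisymm hZ (zpowers_le.2 h.cZ), Nat.card_zpowers, h.oc]

theorem conv {P : Subgroup G} (hna : ¬ IsMulCommutative P) (hZ : (center P).index = 4) :
    (P ⊓ C⟦P⟧).relIndex P = 4 ∧ ∃ c, Z4 P c := by
  have h1 : (P ⊓ C⟦P⟧).relIndex P = 4 := by
    rw [← H21.map_center, relIndex, subgroupOf, comap_map_eq_self_of_injective P.subtype_injective, hZ]
  exact ⟨h1, exists_Z4 h1 fun e => hna ⟨⟨fun a b => Subtype.ext (mem_cent.1 (e b.2) a a.2)⟩⟩⟩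

variable [Finite G]

theorem simple [IsSimpleGroup G] (P : Sylow 2 G) (hna : ¬ IsMulCommutative (P : Subgroup G))
    (hZ : (center (P : Subgroup G)).index = 4) : Nat.card (P : Subgroup G) = 8 ∧ GW.CD (⊤ : Subgroup G) := by
  obtain ⟨h4, c, h⟩ := conv hna hZ
  have hP := sylowOf_top P
  have hG : ¬ IsMulCommutative G := fun _ => hna inferInstance
  obtain ⟨D, hD⟩ : ∃ D, Act P c D := by
    by_contra! h1
    refine ne2 h.oc (mem_bot.1 (H11.C2.center_bot hG ▸ mem_center_iff.2 fun g => ?_))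
    have := H6.zstar_sylow P h.oc h.cP (h.iso h1) g
    rw [show pPrimeCore 2 G = ⊥ from H11.oddCore_eq_bot_of_simple hG, mem_bot, mul_inv_eq_one, mul_inv_eq_iff_eq_mul] at this
    exact this.symm
  have h0 : C0 P c = ⊥ := by_contra fun h0 => by
    have h1 : C0 P c ≤ (P : Subgroup G) ⊓ C⟦(P : Subgroup G)⟧ := inf_le_left
    obtain ⟨H, hH⟩ := (S1169.result P _ h0 ⟨⟨fun a b => Subtype.ext (mem_cent.1 (h1 b.2).2 a (h1 a.2).1)⟩⟩
      h.sc_C0).resolve_left hna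
    obtain ⟨w, hw, ow, -⟩ := H11.exists_orderOf_eq_centralizer_of_normalized IsPGroup.of_bot
      (P.2.to_le (h1.trans inf_le_left)) h0 bot_le
    obtain ⟨g, hg⟩ := isConj_iff.1 (H11.SE.isConj_invol hH ow h.oc)
    exact h.cCr hD hP ((mem_C0.1 (hg ▸ h.sc_C0.2 w hw g (hg ▸ h.cP))).2 D hD)
  have h1 : (P : Subgroup G) ⊓ C⟦(P : Subgroup G)⟧ ≤ zpowers c := by
    rcases h.fin h0 hD with h1 | ⟨D, g, g', hD', hne, hg, e, hg', e', h1⟩
    · exact h1.2
    rw [← _root_.commutator_def, GW.perfect_of_simple hG, inf_top_eq] at h1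
    intro z hz
    have h2 : g * c * g⁻¹ ∉ C⟦(P : Subgroup G)⟧ := fun e1 => e (h.k1 hD hP hg e1)
    rcases (h.k4 hD hP hg e).mem_iff.1 (h.infV hD hP hD' hne hg e hg' e' (h1 hz.1) (Z4.ZD hD hz)) with
      e1 | e1 | e1 | e1 <;> rw [e1] at hz ⊢
    exacts [one_mem _, mem_zpowers c, absurd hz.2 h2, absurd ((mul_mem_cancel_left (mem_inf.1 h.cZ).2).1 hz.2) h2]
  obtain ⟨g, hg, e⟩ := hD.mv
  obtain ⟨a, -, -, h2, h3⟩ := h.dih h1 (hD.lt.le (conj_mem_of_norm hg (h.cD hD))) (h.k4 hD hP hg e).bb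
    fun e1 => e (h.k1 hD hP hg e1)
  exact ⟨card8 h h1 h4, GW.cd_of_gen (H11.isSylIn_top P) h2 (h.k4 hD hP hg e).bb h3⟩

theorem a7_mult (hp : commutator G = ⊤) (e : G ⧸ center G ≃* alternatingGroup (Fin 7)) : Nat.card (center G) ∣ 6 := by
  obtain ⟨Γ, _, _, ⟨f⟩⟩ := Finite.exists_type_univ_nonempty_mulEquiv.{u, 0} G
  have h1 : ((e.toMonoidHom.comp (QuotientGroup.mk' _)).comp f.symm.toMonoidHom).ker = (center G).map f := by
    ext x; simp [mem_map_equiv]
  obtain ⟨π, hπ⟩ := (S2116.result 7 (.inr rfl)).2 Γ ((e.toMonoidHom.comp (QuotientGroup.mk' _)).comp f.symm.toMonoidHom)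
    ⟨(e.surjective.comp (QuotientGroup.mk'_surjective _)).comp f.symm.surjective,
      h1 ▸ fun x hx => mem_center_iff.2 fun y => f.symm.injective (by simpa using mem_center_iff.1 (mem_map_equiv.1 hx) (f.symm y)),
      GW.perfect_of_surj hp f.toMonoidHom f.surjective ▸ le_top⟩
  have := card_dvd_of_surjective π hπ
  rwa [h1, card_map_of_injective f.injective, Nat.card_congr Multiplicative.toAdd,
    Nat.card_zmod] at this

theorem quasi (hq : IsQuasisimple G) (P : Sylow 2 G) (hna : ¬ IsMulCommutative (P : Subgroup G))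
    (hZ : (center (P : Subgroup G)).index = 4) : Nat.card (P : Subgroup G) = 8 ∧ GW.Conc (G ⧸ center G) ∧
      (Nonempty (G ⧸ center G ≃* alternatingGroup (Fin 7)) → Odd (Nat.card (center G))) := by
  obtain ⟨h4, c, h⟩ := conv hna hZ
  haveI := hq.2
  have hp : commutator G = ⊤ := hq.1.commutator_eq_top
  have hf := QuotientGroup.mk'_surjective (center G)
  have hp' := GW.perfect_of_surj hp _ hf
  have hG : ¬ IsMulCommutative (G ⧸ center G) := fun h => GW.not_solvable_of_perfect hp' (Group.isSolvable_of_comm h.1.1)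
  have hO := H11.oddCore_eq_bot_of_simple hG
  have h1 : ∀ z ∈ (P : Subgroup G), z ∈ center G → z ∈ zpowers c := fun z h1 h2 =>
    h.commg le_rfl (H3.mem_commutator_of_mem_center P.card_coprime_index h1 (hp ▸ mem_top z) h2)
  set Q := P.mapSurjective hf with hQ
  have hQm : ∀ {x}, x ∈ (Q : Subgroup (G ⧸ center G)) ↔ ∃ y ∈ (P : Subgroup G), (y : G ⧸ center G) = x := Iff.rfl
  by_cases hc : c ∈ center G
  · have h3 : ∀ x ∈ (P : Subgroup G), ∀ y ∈ (P : Subgroup G), (x : G ⧸ center G) * y * (x : G ⧸ center G)⁻¹ = y :=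
      fun x hx y hy => by
        rw [← QuotientGroup.mk_inv, ← QuotientGroup.mk_mul, ← QuotientGroup.mk_mul]
        rcases h.cases hx hy with e | e <;> rw [e]
        rw [QuotientGroup.mk_mul, (QuotientGroup.eq_one_iff _).2 hc, one_mul]
    have h2 : WA.Ab2 (⊤ : Subgroup (G ⧸ center G)) := fun T _ hT a ha b hb => by
      obtain ⟨g, -, hg⟩ := (H11.isSylIn_top Q).exists_cj_le hT le_top
      obtain ⟨x, hx, e1⟩ := hQm.1 (H11.cj_le_iff.1 hg a ha)
      obtain ⟨y, hy, e2⟩ := hQm.1 (H11.cj_le_iff.1 hg b hb)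
      simpa [e1, e2, mul_inv_eq_iff_eq_mul] using comm_of_conj_eq (h3 x hx y hy)
    haveI := (topEquiv (G := G ⧸ center G)).isSimpleGroup
    obtain ⟨C, -, hC, -, htr, -⟩ := (WA.WT.niceIn (H11.C2.nc_top hG) h2 (WA.walter (H11.C2.nc_top hG) h2.top)).cyc _
      (H11.isSylIn_top Q)
    have h5 : (P : Subgroup G) ⊓ C⟦(P : Subgroup G)⟧ ≤ center G := fun z hz => by_contra fun h5 => by
      obtain ⟨x, hx, h6⟩ := SetLike.not_le_iff_exists.1 h.ex
      obtain ⟨k, hk, e⟩ := htr z (hQm.2 ⟨z, hz.1, rfl⟩) (fun e => h5 ((QuotientGroup.eq_one_iff _).1 e)) x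
        (hQm.2 ⟨x, hx, rfl⟩) fun e => h6 (center_le_centralizer _ ((QuotientGroup.eq_one_iff _).1 e))
      obtain ⟨g, rfl⟩ := QuotientGroup.mk_surjective k
      refine h6 (mem_cent.2 fun y hy => ?_)
      obtain ⟨w, hw, e1⟩ := hQm.1 (conj_mem_of_norm' (hC hk) (hQm.2 ⟨y, hy, rfl⟩))
      have h7 := mem_center_iff.1 (QuotientGroup.eq.1 (show ((g * z * g⁻¹ : G) : G ⧸ center G) = x from e))
      have h8 := mem_center_iff.1 (QuotientGroup.eq.1 (show (w : G ⧸ center G) = (g⁻¹ * y * g : G) from e1)) z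
      have h9 : y * (g * z * g⁻¹) = g * z * g⁻¹ * y := by
        calc _ = g * w * (w⁻¹ * (g⁻¹ * y * g) * z) * g⁻¹ := by group
          _ = g * (w * z) * (w⁻¹ * (g⁻¹ * y * g)) * g⁻¹ := by rw [← h8]; group
          _ = _ := by rw [mem_cent.1 hz.2 w hw]; group
      calc _ = y * (g * z * g⁻¹) * ((g * z * g⁻¹)⁻¹ * x) := by group
        _ = _ := by rw [h9, mul_assoc, h7]; group
    have h6 : ∀ x ∈ (P : Subgroup G), ∀ y ∈ (P : Subgroup G), x * y ≠ y * x → (x : G ⧸ center G) * x = 1 :=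
      fun x hx y hy e => by
        have h6 : x ∉ C⟦(P : Subgroup G)⟧ := fun e1 => e (mem_cent.1 e1 y hy).symm
        exact (QuotientGroup.eq_one_iff _).2 (h5 ⟨mul_mem hx hx, h.idz x hx x hx h6 h6 rfl⟩)
    obtain ⟨x, hx, y, hy, e⟩ := h.exn
    refine ⟨card8 h (fun z hz => h1 z hz.1 (h5 hz)) h4, GW.conc_of_perfect (GW.cd_of_gen (H11.isSylIn_top Q)
      (a := x) (s := y) (map_le_iff_le_comap.2 (h.gen (h5.trans fun z hz => ?_) hy hx e (subset_closure (by simp))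
      (subset_closure (by simp)))) (h6 y hy x hx e.symm) ((h3 y hy x hx).trans
      (eq_inv_of_mul_eq_one_left (h6 x hx y hy e)))) hO hp', fun ⟨f⟩ => ?_⟩
    · rw [mem_comap, QuotientGroup.mk'_apply, (QuotientGroup.eq_one_iff _).2 hz]; exact one_mem _
    · obtain ⟨t, h7, h8⟩ : ∃ t : alternatingGroup (Fin 7), t ^ 4 = 1 ∧ t ^ 2 ≠ 1 :=
        ⟨⟨Equiv.swap 0 1 * Equiv.swap 1 2 * Equiv.swap 2 3 * Equiv.swap 4 5, Equiv.Perm.mem_alternatingGroup.2 (by decide)⟩,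
          by simp only [ne_eq, Subtype.ext_iff]; decide⟩
      exact absurd (by simpa using congrArg f (H11.C2.el hG h2 (f.symm t) trivial (by rw [← map_pow, h7, map_one]))) h8
  · have h2 : ∀ z ∈ (P : Subgroup G), z ∈ center G → z = 1 := fun z h2 h3 =>
      (mem_zpowers2 h.oc (h1 z h2 h3)).resolve_right fun e => hc (e ▸ h3)
    have e : (P : Subgroup G) ≃* (Q : Subgroup (G ⧸ center G)) := MulEquiv.ofBijective ((QuotientGroup.mk' _).subgroupMap P)
      ⟨(injective_iff_map_eq_one _).2 fun x hx => Subtype.ext (h2 x x.2 ((QuotientGroup.eq_one_iff _).1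
        (congrArg Subtype.val hx))), MonoidHom.subgroupMap_surjective _ _⟩
    obtain ⟨h3, h5⟩ := simple Q (fun _ => hna ⟨⟨fun a b => e.injective (by rw [map_mul, map_mul, mul_comm'])⟩⟩)
      (by rw [← H12.map_center_equiv e, index_map_equiv, hZ])
    refine ⟨(Nat.card_congr e.toEquiv).trans h3, GW.conc_of_perfect h5 hO hp', fun _ => by_contra fun h6 => ?_⟩
    obtain ⟨t, ht, ot⟩ := H11.exists_invol_of_even (Nat.not_odd_iff_even.1 h6)
    exact ne2 ot (h2 t ((H11.isSylIn_top P).mem_of_commute (k := 1) ot (mem_top t) fun s _ => mem_center_iff.1 ht s) ht)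

end Cfsg.Agent.Zi
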