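import Cfsg.Agent.H11.Zi1
import Cfsg.Agent.H6.ZStar
import Cfsg.Agent.H4.BSW4
import Cfsg.Agent.H26.AltOdd
import Cfsg.Agent.S0254

/-! Groups with an involution centralizer `ℤ₂ × S₄`. -/

set_option autoImplicit false
set_option synthInstance.maxSize 1000

namespace Cfsg.Agent.Zi

open Subgroup Cfsg.Agent.H20 Cfsg.Agent.H21 Cfsg.Agent.BG Cfsg.Agent.JL Equiv
open scoped commutatorElement

variable {G : Type*} [Group G] [Finite G]

theorem sym6_of {N : Subgroup G} [N.Normal] (e : N ≃* alternatingGroup (Fin 6)) (hN : N ≠ ⊤) (hC : C⟦N⟧ = ⊥) {x : G}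
    (hx : x ∈ N) (ox : orderOf x = 3) (h : ∀ g, ∃ n ∈ N, g * x * g⁻¹ = n * x * n⁻¹) : Nonempty (G ≃* Perm (Fin 6)) := by
  let φ : G →* MulAut (alternatingGroup (Fin 6)) := (MulAut.congr e).toMonoidHom.comp MulAut.conjNormal
  have ty : ∀ y : alternatingGroup (Fin 6), orderOf y = 3 → (y : Perm (Fin 6)).cycleType = {3} ∨
      (y : Perm (Fin 6)).cycleType = {3, 3} := fun y hy => by
    rw [← orderOf_coe] at hy
    obtain ⟨n, hn⟩ := Perm.cycleType_prime_order (hy ▸ Nat.prime_three)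
    have := (y : Perm (Fin 6)).sum_cycleType_le
    rw [hn, hy, Multiset.sum_replicate, Fintype.card_fin, smul_eq_mul] at this
    obtain rfl | rfl : n = 0 ∨ n = 1 := by omega
    exacts [Or.inl (hn.trans (by rw [hy]; rfl)), Or.inr (hn.trans (by rw [hy]; rfl))]
  have ct : ∀ {y z : alternatingGroup (Fin 6)}, IsConj y z → (y : Perm (Fin 6)).cycleType = (z : Perm (Fin 6)).cycleType :=
    fun c => Perm.isConj_iff_cycleType_eq.1 ((alternatingGroup _).subtype.map_isConj c)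
  have h3 : ∀ g, φ g ∈ (MulAut.conjNormal : Perm (Fin 6) →* _).range := fun g => by
    obtain ⟨σ, hσ⟩ := H26.exists_conj_of_three (by decide) (φ g) fun y hy => by
      refine (ty _ (by rw [MulEquiv.orderOf_eq, ← orderOf_coe, hy.orderOf])).resolve_right fun c => ?_
      obtain ⟨n, hn, e1⟩ := h g
      have h1 : IsConj (e ⟨x, hx⟩) (φ g (e ⟨x, hx⟩)) := isConj_iff.2 ⟨e ⟨n, hn⟩, by
        rw [← map_mul, ← map_inv, ← map_mul]
        exact (congrArg e (Subtype.ext e1.symm : _ = MulAut.conjNormal g ⟨x, hx⟩)).trans (by simp [φ])⟩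
      rcases ty (e ⟨x, hx⟩) (by rw [MulEquiv.orderOf_eq, orderOf_mk, ox]) with c' | c'
      · have := ct ((φ g).toMonoidHom.map_isConj (alternatingGroup.isThreeCycle_isConj (by simp) hy c'))
        exact absurd (c.symm.trans (this.trans ((ct h1).symm.trans c'))) (by decide)
      · have := ct ((φ g).symm.toMonoidHom.map_isConj ((H26.isConj_alt_of_count (c.trans c'.symm) (i := 3)
          (by rw [c]; decide)).trans h1))
        simp only [MulEquiv.coe_toMonoidHom, MulEquiv.symm_apply_apply] at this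
        exact absurd (hy.symm.trans (this.trans c')) (by decide)
    exact ⟨σ, MulEquiv.ext fun y => Subtype.ext (hσ y).symm⟩
  have inj : Function.Injective φ := (injective_iff_map_eq_one φ).2 fun g hg => mem_bot.1 (hC ▸ mem_cent.2 fun l hl => by
    have := congrArg (fun σ => (e.symm (σ (e ⟨l, hl⟩)) : G)) hg
    exact (mul_inv_eq_iff_eq_mul.1 (by simpa [φ] using this)).symm)
  let ψ := (MonoidHom.ofInjective (H26.conjNormal_alt_injective (α := Fin 6) (by decide))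
    ).symm.toMonoidHom.comp (φ.codRestrict _ h3)
  have iψ : Function.Injective ψ := fun a b c =>
    (φ.injective_codRestrict _ h3).2 inj ((MonoidHom.ofInjective
      (H26.conjNormal_alt_injective (α := Fin 6) (by decide))).symm.injective c)
  refine ⟨MulEquiv.ofBijective ψ ((Nat.bijective_iff_injective_and_card _).2
    ⟨iψ, (Nat.card_le_card_of_injective _ iψ).antisymm ?_⟩)⟩
  rw [← two_mul_nat_card_alternatingGroup, ← Nat.card_congr e.toEquiv, ← N.index_mul_card]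
  exact Nat.mul_le_mul_right _ (one_lt_index_of_ne_top hN)

/-- the local data -/
structure ZS (T : Subgroup G) (t c x : G) : Prop where
  z4 : Z4 T c
  k4 : K4 t c
  cen : T ⊓ C⟦T⟧ = V4 t c
  cc : C₁⟦c⟧ = T
  cT : Nat.card T = 16
  cC : Nat.card C₁⟦t⟧ = 48
  ox : orderOf x = 3
  xt : x * t = t * x
  xT : x * c * x⁻¹ ∈ T
  xx : x * (x * c * x⁻¹) * x⁻¹ = c * (x * c * x⁻¹)

abbrev KK := Multiplicative (ZMod 2) × Perm (Fin 4)
def kt : KK := (Multiplicative.ofAdd 1, 1)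
def kc : KK := (1, swap 0 1 * swap 2 3)
def kx : KK := (1, swap 1 2 * swap 2 3)

theorem exists_ZS {t : G} (ht : orderOf t = 2) (T : Sylow 2 G) (hT : (T : Subgroup G) ≤ C₁⟦t⟧) (e : C₁⟦t⟧ ≃* KK)
    (h2 : C⟦⁅(T : Subgroup G), (T : Subgroup G)⁆⟧ = T) : ∃ c x, ZS T t c x := by
  have c48 : Nat.card C₁⟦t⟧ = 48 := by rw [Nat.card_congr e.toEquiv]; simp [Fintype.card_perm, Nat.factorial]
  have c16 : Nat.card C₁⟦kc⟧ = 16 := by
    rw [← Nat.card_congr (Equiv.subtypeEquivRight (p := fun y : KK => y * kc = kc * y) fun x => mem_cent1.symm),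
      Nat.card_eq_fintype_card]
    decide +kernel
  let j : KK →* G := (C₁⟦t⟧).subtype.comp e.symm.toMonoidHom
  have ji : Function.Injective j := (subtype_injective _).comp e.symm.injective
  have jm : ∀ k, j k ∈ C₁⟦t⟧ := fun k => (e.symm k).2
  have c16' : Nat.card (C₁⟦kc⟧.map j) = 16 := by rw [card_map_of_injective ji, c16]
  obtain ⟨u, hu, e1⟩ := (H11.isSylIn_of_card (p := 2) (S := C₁⟦kc⟧.map j) (by rintro _ ⟨k, -, rfl⟩; exact jm k)
    (IsPGroup.of_card (n := 4) c16') (m := 3) (by rw [c48, c16']) (by decide)).exists_cj_eq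
    (H11.isSylIn_of_sylow_le T hT)
  let i : KK →* G := (MulAut.conj u).toMonoidHom.comp j
  have ii : Function.Injective i := (MulAut.conj u).injective.comp ji
  have hi : C₁⟦kc⟧.map i = T := by rw [← e1, ← map_map]
  have it : i kt = t := by
    have h1 : ∀ k : KK, k ≠ 1 → (∀ y, y * k = k * y) → k = kt := by decide +kernel
    rw [← h1 (e ⟨t, self_mem_cent1 t⟩) (by simpa using ne2 ht) fun y => by
      obtain ⟨y, rfl⟩ := e.surjective y
      rw [← map_mul, ← map_mul]; exact congrArg e (Subtype.ext (mem_cent1.1 y.2))]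
    simpa [i, j] using conj_eq_of_comm (mem_cent1.1 hu)
  have m1 : ∀ {k}, i k ∈ (T : Subgroup G) ↔ k * kc = kc * k := fun {k} => by rw [← hi, mem_map_iff_mem ii, mem_cent1]
  have m2 : ∀ {P : G → Prop}, (∀ y ∈ (T : Subgroup G), P y) ↔ ∀ k, k * kc = kc * k → P (i k) := by
    intro P; rw [← hi]; exact ⟨fun h k hk => h _ ⟨k, mem_cent1.2 hk, rfl⟩, by
      rintro h _ ⟨k, hk, rfl⟩; exact h k (mem_cent1.1 hk)⟩
  have m3 : ∀ {k}, i k ∈ C⟦(T : Subgroup G)⟧ ↔ k = 1 ∨ k = kt ∨ k = kc ∨ k = kt * kc := fun {k} => by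
    rw [mem_cent, m2]; simp only [← map_mul, ii.eq_iff]; revert k; decide +kernel
  have oc : orderOf (i kc) = 2 := by rw [orderOf_injective i ii]; exact orderOf_eq_prime (by decide) (by decide)
  have z4 : Z4 (T : Subgroup G) (i kc) := by
    refine ⟨oc, m2.2 fun x hx => m2.2 fun y hy => ?_, m2.2 fun x hx => m2.2 fun y hy => ?_, fun h => ?_⟩
    · simp only [← map_mul, ← map_inv, ne_eq, ii.eq_iff]; revert x y; decide +kernel
    · simp only [← map_mul, ii.eq_iff, m3]; revert x y; decide +kernel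
    · exact absurd (m3.1 (h (m1.2 (by decide : kx * kc * kx⁻¹ * kc = _)))) (by decide)
  have k4 : K4 t (i kc) := ⟨ht, oc, by rw [← it]; exact fun e => absurd (ii e) (by decide), by
    rw [← it, ← map_mul, ← map_mul]; exact congrArg i (by decide)⟩
  refine ⟨i kc, i kx, z4, k4, le_antisymm (fun y hy => (m2 (P := fun y => y ∈ C⟦(T : Subgroup G)⟧ → y ∈ V4 t (i kc))).2
    (fun k _ hk => ?_) y hy.1 hy.2) (K4.le_of ⟨it ▸ m1.2 (by decide), it ▸ m3.2 (by simp)⟩ z4.cZ),
    le_antisymm (by rw [← h2, ← cent_zpowers]; exact cent_anti (z4.commg le_rfl)) (le_cent1_iff.2 z4.cZ.2),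
    by rw [← hi, card_map_of_injective ii, c16], c48, ?_, ?_, ?_, ?_⟩
  · rw [k4.mem_iff, ← it, ← map_mul, ← map_one i]; simpa only [ii.eq_iff] using m3.1 hk
  · rw [orderOf_injective i ii]; exact orderOf_eq_prime (by decide) (by decide)
  · rw [← it, ← map_mul, ← map_mul]; exact congrArg i (by decide)
  · rw [← map_mul, ← map_inv, ← map_mul, m1]; decide
  · simp only [← map_mul, ← map_inv]; exact congrArg i (by decide)

namespace ZS
variable {T : Sylow 2 G} {t c x : G} (h : ZS T t c x)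
include h

theorem tZ : t ∈ (T : Subgroup G) ⊓ C⟦(T : Subgroup G)⟧ := h.cen ▸ h.k4.a_mem

theorem xc : x * c ≠ c * x := fun e => by
  have := (T : Subgroup G).orderOf_dvd_natCard (h.cc ▸ mem_cent1.2 e)
  rw [h.ox, h.cT] at this
  exact absurd this (by decide)

theorem kk : K4 c (x * c * x⁻¹) :=
  ⟨h.z4.oc, by rw [orderOf_cj, h.z4.oc], fun e => h.xc (comm_of_conj_eq e.symm), (mem_cent1.1 (h.cc ▸ h.xT)).symm⟩

theorem act : Act (T : Subgroup G) c (C⟦V4 c (x * c * x⁻¹)⟧) ∧ x ∈ N⟦C⟦V4 c (x * c * x⁻¹)⟧⟧ := by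
  have h1 := mem_norm_cent (h.kk.mem_norm h.kk.b_mem (h.xx ▸ mul_mem h.kk.a_mem h.kk.b_mem))
  have h2 : C⟦V4 c (x * c * x⁻¹)⟧ ≤ T := by rw [h.kk.cent_eq, h.cc]; exact inf_le_left
  refine ⟨⟨lt_of_le_of_ne h2 fun e => h.xc ?_, inf_le_right.trans (cent_anti (h.kk.cent_eq ▸ h.kk.V_le_cent)),
    x, h1, h.kk.ne.symm⟩, h1⟩
  exact comm_of_conj_eq (h.z4.fix (e ▸ h1))

theorem odd_bot : pPrimeCore 2 G = ⊥ := by
  have ho : Odd (Nat.card (pPrimeCore 2 G)) := Nat.coprime_two_right.1 (H1.coprime_card_pPrimeCore 2 G)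
  have h1 : ∀ g : G, pPrimeCore 2 G ⊓ C₁⟦g * c * g⁻¹⟧ ≤ ⊥ := fun g => by
    rw [← cj_cent1, h.cc]
    exact (inf_eq_bot_coprime (by rw [card_cj, h.cT]; exact (Nat.coprime_two_right.2 ho).pow_right 4)).le
  refine le_bot_iff.1 (h.kk.gen ho (by rw [normalizer_eq_top]; exact le_top) (by simpa using h1 1) (h1 x) ?_)
  rw [← h.xx, show x * (x * c * x⁻¹) * x⁻¹ = x * x * c * (x * x)⁻¹ by group]; exact h1 _

theorem cent2 {a b : G} (ha : a ∈ (T : Subgroup G)) (hb : b ∈ (T : Subgroup G)) (e : a * b ≠ b * a) :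
    C₁⟦a⟧ ⊓ C₁⟦b⟧ ≤ V4 t c := fun r hr => by
  have h1 : r ∈ (T : Subgroup G) := by
    rw [← h.cc, h.z4.eq ha hb e]
    have h1 := mem_cent1_comm.1 hr.1
    have h2 := mem_cent1_comm.1 hr.2
    exact mem_cent1_comm.1 (mul_mem (mul_mem (mul_mem h1 h2) (inv_mem h1)) (inv_mem h2))
  exact h.cen ▸ ⟨h1, le_cent1_iff.1 (h.z4.gen (fun z hz => mem_cent1.2 (mem_cent.1 hz.2 r h1).symm) hb ha e
    (mem_cent1.2 (mem_cent1.1 hr.2).symm) (mem_cent1.2 (mem_cent1.1 hr.1).symm))⟩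

theorem main : C₁⟦t⟧ = ⊤ ∨ Nonempty (G ≃* Perm (Fin 6)) := by
  have hP := sylowOf_top T
  have z := h.z4
  obtain ⟨hD, hx⟩ := h.act
  generalize C⟦V4 c (x * c * x⁻¹)⟧ = D at hD hx
  refine or_iff_not_imp_left.2 fun hn => ?_
  have h0 : C0 T c = ⊥ := by_contra fun h0 => hn (by
    have h1 : ∀ w ∈ C0 T c, w ≠ 1 → w = t := fun w hw h1 => by
      have h2 := (mem_C0.1 hw).2 D hD
      rcases h.k4.mem_iff.1 (h.cen ▸ (mem_C0.1 hw).1) with e | e | e | e
      · exact absurd e h1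
      · exact e
      · exact absurd (e ▸ h2) (z.cCr hD hP)
      · refine absurd ?_ (z.nc hD hP hx h.kk.ne.symm)
        have := (mem_Cr.1 h2).2 x hx
        rw [e, show x⁻¹ * (t * c) * x = x⁻¹ * (t * x) * (x⁻¹ * c * x) by group, ← h.xt, inv_mul_cancel_left] at this
        exact (mul_mem_cancel_left (mem_inf.1 h.tZ).2).1 this
    obtain ⟨w, hw, h2⟩ := (C0 T c).bot_or_exists_ne_one.resolve_left h0
    obtain rfl := h1 w hw h2
    refine eq_top_iff.2 fun g _ => mem_cent1.2 ?_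
    have := H6.zstar_sylow T h.k4.oa h.tZ.1
      (fun g hg => h1 _ (z.sc_C0.2 _ hw g hg) (ne2 (by rw [orderOf_cj, h.k4.oa]))) g
    rw [h.odd_bot, mem_bot, mul_inv_eq_one, mul_inv_eq_iff_eq_mul] at this
    exact this.symm)
  rcases z.fin h0 hD with h1 | ⟨D', g, g', hD', hne, hg, e, hg', e', h1⟩
  · rcases mem_zpowers2 z.oc (h1.2 h.tZ) with e | e
    exacts [absurd e (ne2 h.k4.oa), absurd e h.k4.ne]
  have ka := z.k4 hD hP hg e
  have kb := z.k4 hD' hP hg' e'
  have aD := conj_mem_of_norm hg (z.cD hD)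
  have bD := conj_mem_of_norm hg' (z.cD hD')
  have aZ : g * c * g⁻¹ ∉ C⟦(T : Subgroup G)⟧ := fun e1 => e (z.k1 hD hP hg e1)
  have tN : t ∉ commutator G := fun e1 => by
    rcases ka.mem_iff.1 (z.infV hD hP hD' hne hg e hg' e' (h1 ⟨h.tZ.1, e1⟩) (Z4.ZD hD h.tZ)) with e2 | e2 | e2 | e2
    exacts [ne2 h.k4.oa e2, h.k4.ne e2, aZ (e2 ▸ h.tZ.2), aZ ((mul_mem_cancel_left (mem_inf.1 z.cZ).2).1 (e2 ▸ h.tZ.2))]
  have ab : g * c * g⁻¹ * (g' * c * g'⁻¹) ≠ g' * c * g'⁻¹ * (g * c * g⁻¹) := fun e1 =>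
    hne (z.act_eq hD hD' aD (z.mem hD' bD (fun e2 => e' (z.k1 hD' hP hg' e2)) (hD.lt.le aD) e1) aZ)
  have nm : ∀ M : Subgroup G, M.Normal → c ∈ M → g * c * g⁻¹ ∈ M ∧ g' * c * g'⁻¹ ∈ M := fun M hM hc =>
    ⟨hM.conj_mem c hc g, hM.conj_mem c hc g'⟩
  have cm : ∀ w n, n * w * n⁻¹ = c → (∀ u v, Commute (u * w * u⁻¹) (v * w * v⁻¹)) → False := fun w n e1 e2 =>
    ab (by simpa only [← e1, mul_inv_rev, mul_assoc] using (e2 (g * n) (g' * n)).eq)
  have aT := hD.lt.le aD
  have bT := hD'.lt.le bD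
  generalize g * c * g⁻¹ = a at *
  generalize g' * c * g'⁻¹ = b at *
  have ec := z.eq aT bT ab
  have s2 : (a * b) ^ 2 = c := by rw [ec, inv2 ka.ob, inv2 kb.ob, sq, mul_assoc (a * b)]
  obtain ⟨f⟩ := H11.nonempty_closure_equiv_dihedral (a := a * b) (s := a) (n := 4) (by decide)
    (orderOf_eq_prime_pow (p := 2) (n := 1) (by rw [pow_one, s2]; exact ne2 z.oc)
      (by rw [pow_succ, pow_mul, pow_one, s2, sq, sq2 z.oc]))
    (by rw [← mul_assoc, ka.bb, one_mul, mul_inv_rev, inv2 kb.ob]) ka.bb fun ⟨k, hk⟩ => ab (mul_left_cancel (a := a) (by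
      have := ((Commute.refl (a * b)).zpow_left k).eq
      rwa [show (a * b) ^ k = a from hk, mul_assoc a b] at this))
  have aX : a ∈ closure {a * b, a} := subset_closure (by simp)
  have abX : a * b ∈ closure {a * b, a} := subset_closure (by simp)
  have key : ∀ M : Subgroup G, M.Normal → c ∈ M → M ≤ commutator G →
      (T : Subgroup G) ⊓ M = closure {a * b, a} ∧ M ⊔ T = ⊤ := fun M hM hc hle => by
    have h2 : (T : Subgroup G) ⊓ M = closure {a * b, a} := le_antisymm ((inf_le_inf_left _ hle).trans (h1.trans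
      (sup_le (K4.le_of (s2 ▸ pow_mem abX 2) aX) (K4.le_of (s2 ▸ pow_mem abX 2) ((mul_mem_cancel_left aX).1 abX)))))
      ((closure_le _).2 (by
        rintro _ (rfl | rfl)
        exacts [⟨mul_mem aT bT, mul_mem (nm M hM hc).1 (nm M hM hc).2⟩, ⟨aT, (nm M hM hc).1⟩]))
    refine ⟨h2, eq_top_iff.2 fun y _ => ?_⟩
    obtain ⟨n, hn, h3⟩ := ((H11.isSylIn_top T).inf_of_normalized (N := M) le_top
      (by rw [normalizer_eq_top])).frattini (g := y) (by rw [normalizer_eq_top]; trivial)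
    refine (mul_mem_cancel_left (mem_sup_left hn)).1 (mem_sup_right (h.cc ▸ mem_cent1.2 (comm_of_conj_eq ?_)))
    nth_rw 2 [z.eq (conj_mem_of_norm h3 ⟨aT, (nm M hM hc).1⟩).1 (conj_mem_of_norm h3 ⟨bT, (nm M hM hc).2⟩).1
      (by simpa only [ne_eq, conj_mul, mul_left_inj, mul_right_inj] using ab)]
    rw [ec]; group
  set N := commutator G with hN
  have cN : c ∈ N := ec ▸ commutator_mem_commutator (mem_top a) (mem_top b)
  obtain ⟨k1, k2⟩ := key N inferInstance cN le_rfl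
  obtain ⟨k3, k4⟩ := key ⁅N, N⁆ inferInstance (ec ▸ commutator_mem_commutator (nm N inferInstance cN).1
    (nm N inferInstance cN).2) (commutator_le_left _ _)
  have pf : commutator N = ⊤ := map_injective N.subtype_injective (by
    rw [map_subtype_commutator, ← MonoidHom.range_eq_map, range_subtype]
    refine le_antisymm (commutator_le_left _ _) fun y hy => ?_
    obtain ⟨m, hm, s, hs, rfl⟩ := mem_sup_of_normal_left.1 (k4 ▸ mem_top y)
    exact mul_mem hm (k3.ge (k1.le ⟨hs, (mul_mem_cancel_left (commutator_le_left _ _ hm)).1 hy⟩)).2)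
  have i2 : N.index = 2 := by
    have := H11.card_mul_relIndex (inf_le_left (a := (T : Subgroup G)) (b := N))
    rw [inf_relIndex_left, k1, Nat.card_congr f.toEquiv, DihedralGroup.nat_card, h.cT, ← relIndex_sup_left, k2,
      relIndex_top_right] at this
    omega
  obtain ⟨S, hS⟩ := ((H11.isSylIn_top T).inf_of_normalized (N := N) le_top (by rw [normalizer_eq_top])).exists_sylow
  obtain ⟨K, s, hb, hK⟩ := H4.exists_bw_of_cent (fun H hH => by
      have := normal_of_index_eq_two hH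
      have := isCyclic_of_prime_card (α := N ⧸ H) hH
      have h4 := (Normal.quotient_commutative_iff_commutator_le (N := H)).1 IsCyclic.isMulCommutative
      rw [pf, top_le_iff] at h4
      simp [h4] at hH) S (by decide) ((MulEquiv.subgroupCongr hS).trans ((subgroupOfEquivOfLe inf_le_right).trans
      ((MulEquiv.subgroupCongr k1).trans f))) (t := ⟨c, cN⟩) (by rw [orderOf_mk, z.oc]) (by
      ext y; simp [hS, mem_subgroupOf, ← h.cc, mem_cent1, Subtype.ext_iff])
  have cj2 : ∀ w ∈ N, orderOf w = 2 → ∃ n, n * w * n⁻¹ = c := fun w hw ow => by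
    obtain ⟨n, hn⟩ := isConj_iff.1 (hb.conj ⟨w, hw⟩ ⟨c, cN⟩ (by rwa [orderOf_mk]) hb.ht)
    exact ⟨n, congrArg Subtype.val hn⟩
  rcases hb.classify with ⟨-, h4⟩ | ⟨-, F, _, _, h4 | h4, -, h5, ⟨φ⟩⟩
  · omega
  · obtain ⟨ψ⟩ := S0254.result (F := F) (by omega)
    have xN : x ∈ N := by
      have := N.sq_mem_of_index_two i2 (x ^ 2)
      rwa [← pow_mul, pow_succ, ← h.ox, pow_orderOf_eq_one, one_mul] at this
    refine sym6_of (φ.trans ψ) (fun e1 => tN (e1 ▸ mem_top t)) (eq_bot_iff.2 fun r hr => ?_) xN h.ox fun y => ?_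
    · have h6 := mem_cent.1 hr x xN
      rcases h.k4.mem_iff.1 (h.cent2 aT bT ab ⟨cent_le_cent1 (nm N inferInstance cN).1 hr,
        cent_le_cent1 (nm N inferInstance cN).2 hr⟩) with e1 | e1 | e1 | e1 <;> rw [e1] at hr h6
      · exact e1
      · exact absurd (eq_top_iff.2 (k2 ▸ sup_le (le_cent1_iff.2 hr) (le_cent1_iff.2 h.tZ.2))) hn
      · exact absurd h6 h.xc
      · rw [← mul_assoc, h.xt, mul_assoc, mul_assoc, mul_right_inj] at h6; exact absurd h6 h.xc
    · by_cases h6 : y ∈ N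
      · exact ⟨y, h6, rfl⟩
      · exact ⟨y * t, (mul_mem_iff_of_index_two i2).2 (iff_of_false h6 tN), by rw [mul_assoc y t, ← h.xt]; group⟩
  · exfalso
    rw [show Fintype.card F = 7 by omega] at h5
    have cG := N.card_mul_index
    have c48 : ∀ u : G, Nat.card C₁⟦u * t * u⁻¹⟧ = 48 ∧ (C₁⟦u * t * u⁻¹⟧).index = 7 := fun u => by
      have h6 := (C₁⟦u * t * u⁻¹⟧).card_mul_index
      rw [H11.card_cent_conj, h.cC] at h6 ⊢
      rw [i2] at cG
      omega
    have cc : ∀ u v : G, Commute (u * t * u⁻¹) (v * t * v⁻¹) := fun u v => by_contra fun e1 => by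
      set R := C₁⟦u * t * u⁻¹⟧ ⊓ C₁⟦v * t * v⁻¹⟧ with hR
      have r1 : R.index ≤ 7 * 7 := index_inf_le.trans (by rw [(c48 u).2, (c48 v).2])
      have r2 : Nat.card R ∣ 48 := (c48 u).1 ▸ card_dvd_of_le inf_le_left
      have r3 := R.card_mul_index
      have r4 : 7 ≤ Nat.card R := by rw [i2] at cG; nlinarith
      have r5 := H11.card_mul_relIndex (inf_le_left (a := R) (b := N))
      have r6 : N.relIndex R ∣ 2 := i2 ▸ relIndex_dvd_index_of_normal N R
      rw [inf_relIndex_left] at r5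
      obtain ⟨w, hw, ow⟩ := H11.exists_invol_of_even (H := R ⊓ N) (by
        have := Nat.le_of_dvd (by decide) r2
        rw [Nat.even_iff]
        rcases (Nat.dvd_prime Nat.prime_two).1 r6 with e2 | e2 <;> rw [e2] at r5 <;>
          generalize Nat.card R = m at * <;> interval_cases m <;> omega)
      obtain ⟨n, e2⟩ := cj2 w hw.2 ow
      have r7 : ∀ y, w ∈ C₁⟦y⟧ → n * y * n⁻¹ ∈ (T : Subgroup G) := fun y hy => by
        rw [← h.cc, ← e2, ← cj_cent1]; exact conj_mem_cj.2 (mem_cent1_comm.1 hy)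
      have r8 := card_le_of_le (h.cent2 (r7 _ hw.1.1) (r7 _ hw.1.2) (by simpa [commute_iff_eq] using e1))
      rw [← cj_cent1, ← cj_cent1 n, ← cj_inf, card_cj, h.k4.card, ← hR] at r8
      omega
    obtain ⟨y, hy⟩ : ∃ y, y * t ≠ t * y := by_contra fun e1 => hn (eq_top_iff.2 fun y _ => mem_cent1.2
      (by_contra fun e2 => e1 ⟨y, e2⟩))
    have c1 : t * (y * t * y⁻¹) = y * t * y⁻¹ * t := by simpa using (cc 1 y).eq
    obtain ⟨n, e1⟩ := cj2 (t * (y * t * y⁻¹)) (by
      simpa [hN, _root_.commutator_def, commutatorElement_def, inv2 h.k4.oa, mul_assoc] using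
        commutator_mem_commutator (mem_top t) (mem_top y))
      (K4.oab ⟨h.k4.oa, by rw [orderOf_cj, h.k4.oa], fun e1 => hy (comm_of_conj_eq e1.symm), c1⟩)
    refine cm _ n e1 fun u v => ?_
    have e2 : ∀ u : G, u * (t * (y * t * y⁻¹)) * u⁻¹ = u * t * u⁻¹ * (u * y * t * (u * y)⁻¹) := fun u => by group
    rw [e2, e2]
    exact ((cc _ _).mul_left (cc _ _)).mul_right ((cc _ _).mul_left (cc _ _))

end ZS

end Cfsg.Agent.Zi
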